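import Cfsg.Agent.H16.Janko1.Uniq.Group

/-!
A simple group with centraliser `Z2 × A5` of a 2-central involution is the group of the table.
-/

set_option autoImplicit false

namespace H16.J1.Uniq

open Subgroup

universe u

variable {G : Type u} [Group G] [Finite G] [IsSimpleGroup G]

theorem Setup.iso_table (S₀ : Setup G) : Nonempty (G ≃* tableGroup) := by
  obtain ⟨S, s, c, -, h1, hrel⟩ := exists_amalgam S₀
  set C : Subgroup G := centralizer ({S.t} : Set G) with hC
  have hembC : ∀ m : M, S.emb m ∈ C := fun m => by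
    rw [hC, mem_centralizer_singleton_iff, Setup.t, ← map_mul, ← map_mul]
    congr 1
    obtain ⟨i, b⟩ := m
    simp [tau, mul_comm]
  have hCmem : ∀ g ∈ C, ∃ m, S.emb m = g := fun g hg =>
    S.mem g (mem_centralizer_singleton_iff.1 hg)
  have hsC : s ∉ C := by
    intro hs
    rw [hC, mem_centralizer_singleton_iff] at hs
    rw [hs, mul_inv_cancel_right] at h1
    exact pre_facts.2.2.2.2.1 (S.inj h1).symm
  let p₀ : G ⧸ C := ((1 : G) : G ⧸ C)
  have hfix : ∀ g : G, g • p₀ = p₀ ↔ g ∈ C := fun g => by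
    rw [MulAction.Quotient.smul_coe, smul_eq_mul, mul_one, QuotientGroup.eq]
    simp
  have hsub : ∀ g, g < 6 → act (genG S s) [g] p₀ = p₀ := fun g hg => by
    rw [act, evalW_low S s [g] (by simpa using hg), hfix]
    exact inv_mem (hembC _)
  have hmove : act (genG S s) [6] p₀ ≠ p₀ := by
    rw [act, (evalW_six S s).1, Ne, hfix, inv_mem_iff]
    exact hsC
  have hc : c = 0 := by
    by_contra h0
    obtain ⟨h0', hA, hB, hD⟩ := relList_eq
    have hcase : c = 1 ∨ c = 2 ∨ c = 3 := (show ∀ d : Fin 4, d ≠ 0 → d = 1 ∨ d = 2 ∨ d = 3 by decide) c h0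
    apply hmove
    rcases hcase with rfl | rfl | rfl
    · exact collapse_fixed _ _ _ _ badA_check.1 badA_check.2 (hA ▸ hrel) hsub
    · exact collapse_fixed _ _ _ _ badB_check.1 badB_check.2 (hB ▸ hrel) hsub
    · exact collapse_fixed _ _ _ _ badC_check.1 badC_check.2 (hD ▸ hrel) hsub
  subst hc
  rw [relList_eq.1] at hrel
  haveI : FaithfulSMul G (G ⧸ C) := by
    refine ⟨fun {a b} h => ?_⟩
    have hmem : b⁻¹ * a ∈ C.normalCore := by
      rw [Subgroup.normalCore_eq_ker, MonoidHom.mem_ker]
      refine Equiv.ext fun x => ?_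
      show (b⁻¹ * a) • x = x
      rw [mul_smul, h x, inv_smul_smul]
    rcases IsSimpleGroup.eq_bot_or_eq_top_of_normal C.normalCore (Subgroup.normalCore_normal C)
      with hb | ht
    · rw [hb, Subgroup.mem_bot] at hmem
      exact (inv_mul_eq_one.1 hmem).symm
    · exact absurd (C.normalCore_le (ht ▸ Subgroup.mem_top s)) hsC
  have hcard : Nat.card (G ⧸ C) = 1463 := by
    have h := S.index_t
    rw [card_eq' S] at h
    rw [← Subgroup.index_eq_card]
    show C.index = 1463
    rw [hC]
    omega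
  refine iso_tableGroup (genG S s) p₀ hrel hsub hmove hcard fun g hg => ?_
  obtain ⟨⟨i, b⟩, rfl⟩ := hCmem g ((hfix g).1 hg)
  set K := Subgroup.closure (Set.range fun q : Fin 4 => genG S s q)
  have hgen : ∀ q : ℕ, q < 3 → S.emb (genM q) ∈ K := fun q hq =>
    Subgroup.subset_closure ⟨⟨q, by omega⟩, by simp [genG, hq]⟩
  have hev : ∀ w : List ℕ, (∀ g ∈ w, g < 6) → S.emb (evM w) ∈ K := by
    intro w
    induction w with
    | nil => intro _; simp [evM]
    | cons a w ih =>
      intro h
      have ha := h a List.mem_cons_self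
      rw [show evM (a :: w) = valM a * evM w by simp [evM], map_mul]
      refine mul_mem ?_ (ih fun x hx => h x (List.mem_cons_of_mem _ hx))
      unfold valM
      simp only [show a < 8 by omega, if_true]
      split_ifs
      · exact hgen _ (by omega)
      · rw [map_inv]; exact inv_mem (hgen _ (by omega))
  obtain ⟨w, hw, hwb⟩ := gen_sub b
  have hw6 : ∀ g ∈ w, g < 6 := by
    have : ∀ v ∈ a5Words, ∀ g ∈ v, g < 6 := by decide
    exact this w hw
  have hi : ∀ i : C2, ((i, (1 : A5)) : M) = evM [] ∨ (i, (1 : A5)) = evM [0] := by decide +kernel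
  rw [show ((i, b) : M) = (i, 1) * (1, b) from Prod.ext (mul_one i).symm (one_mul b).symm, map_mul]
  refine mul_mem ?_ (hwb ▸ hev w hw6)
  rcases hi i with h | h <;> rw [h] <;> exact hev _ (by decide)

theorem iso_tableGroup_of_equiv (t : G) (ht : Cfsg.IsTwoCentralInvolution t)
    (e : Subgroup.centralizer ({t} : Set G) ≃* Multiplicative (ZMod 2) × alternatingGroup (Fin 5)) :
    Nonempty (G ≃* tableGroup) := by
  obtain ⟨S, -⟩ := Setup.exists_of_equiv t ht e
  exact Setup.iso_table S

omit [IsSimpleGroup G] in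
/-- An involution whose centraliser contains a Sylow two-subgroup is 2-central. -/
theorem twoCentral_of_card (t : G) (h2 : orderOf t = 2)
    (h : (Nat.card (Subgroup.centralizer ({t} : Set G))).factorization 2 =
      (Nat.card G).factorization 2) : Cfsg.IsTwoCentralInvolution t := by
  haveI : Fact (Nat.Prime 2) := ⟨Nat.prime_two⟩
  set C := Subgroup.centralizer ({t} : Set G)
  let tc : C := ⟨t, mem_centralizer_singleton_iff.2 rfl⟩
  obtain ⟨P, hP⟩ := (IsPGroup.of_card (G := zpowers tc) (p := 2) (n := 1)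
    (by rw [Nat.card_zpowers, Subgroup.orderOf_mk, h2]; rfl)).exists_le_sylow
  refine ⟨h2, Sylow.ofCard ((P : Subgroup C).map C.subtype) ?_, ?_, ?_⟩
  · rw [← Nat.card_congr ((P : Subgroup C).equivMapOfInjective C.subtype C.subtype_injective).toEquiv,
      P.card_eq_multiplicity, h]
  · exact ⟨tc, hP (mem_zpowers _), rfl⟩
  · rintro _ ⟨x, -, rfl⟩
    exact mem_centralizer_singleton_iff.1 x.2

end H16.J1.Uniq
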