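import Cfsg.Agent.H16.Janko1.Uniq.DataBadA
import Cfsg.Agent.H16.Janko1.Uniq.DataBadB
import Cfsg.Agent.H16.Janko1.Uniq.DataBadC

/-!
The three collapsing logs are valid.
-/

set_option autoImplicit false

namespace H16.J1.Uniq

/-- The final path of a collapsing log goes from the base point to itself along the fourth
generator. -/
def Log.collapse (L : Log) (path : List ℕ) : Bool :=
  match L.walk L.count path 0 with
  | none => false
  | some (e, ws) => decide (e = 0) && (ws.filter fun g => decide (g < 8)) == [6]

theorem badA_check : BadA.log.check = true ∧ BadA.log.collapse BadA.finalPath = true :=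
  ⟨by decide +kernel, by decide +kernel⟩

theorem badB_check : BadB.log.check = true ∧ BadB.log.collapse BadB.finalPath = true :=
  ⟨by decide +kernel, by decide +kernel⟩

theorem badC_check : BadC.log.check = true ∧ BadC.log.collapse BadC.finalPath = true :=
  ⟨by decide +kernel, by decide +kernel⟩

end H16.J1.Uniq
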