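import Cfsg.Agent.H16.Janko1.Uniq.DataMain

/-!
The main log is valid and its table is consistent.
-/

set_option autoImplicit false

namespace H16.J1.Uniq

/-- The table: image of a point under a letter. -/
def stp (x g : ℕ) : ℕ :=
  if g < 8 then (if g % 2 = 0 then look Main.tab (4 * x + g / 2) else look Main.tabInv (4 * x + g / 2))
  else x

/-- The table: image of a point under a word. -/
def run : List ℕ → ℕ → ℕ
  | [], x => x
  | g :: w, x => run w (stp x g)

/-- One entry of the table is consistent. -/
def edgeOK (j : ℕ) : Bool :=
  let x := j / 4
  let q := j % 4
  let y := look Main.tab j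
  let e := look Main.edge j
  decide (y < 1463) && decide (look Main.tabInv j < 1463) &&
    decide (look Main.tabInv (4 * y + q) = x) &&
    decide (look Main.tab (4 * look Main.tabInv j + q) = x) &&
    decide (e / 2 < Main.log.count) &&
    (if e % 2 = 0 then decide (Main.log.fc (e / 2) = look Main.lab x ∧ Main.log.fg (e / 2) = 2 * q ∧
        Main.log.fd (e / 2) = look Main.lab y)
      else decide (Main.log.fd (e / 2) = look Main.lab x ∧ flip (Main.log.fg (e / 2)) = 2 * q ∧
        Main.log.fc (e / 2) = look Main.lab y))

/-- Decode a word of letters below six. -/
def decodeWord : ℕ → ℕ → List ℕ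
  | 0, _ => []
  | n + 1, x => if x = 0 then [] else (x % 16 - 1) :: decodeWord n (x / 16)

/-- The representative of a point. -/
def repOf (x : ℕ) : ℕ := look Main.back x % 256

/-- The word leading from a point to its representative. -/
def backWord (x : ℕ) : List ℕ := decodeWord 48 (look Main.back x / 256)

/-- One point is led to its representative. -/
def backOK (x : ℕ) : Bool :=
  x == 0 || ((backWord x).all (fun g => decide (g < 6)) && decide (repOf x < Main.reps.length) &&
    run (backWord x) x == Main.reps.getD (repOf x) 0)

/-- A move used in the representative paths. -/
def moveWord (w : List ℕ) (j : ℕ) : List ℕ := if j < 6 then [j] else if j = 6 then w else winv w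

/-- One representative generates the image of the base point. -/
def repOK (n : ℕ) : Bool :=
  run (Main.repWord.getD n []) 0 == Main.reps.getD n 0 &&
    run ((Main.repPath.getD n []).flatMap (moveWord (Main.repWord.getD n []))) 0 == stp 0 6

theorem main_check : Main.log.check = true := by decide +kernel

theorem main_edges : allN 5852 edgeOK = true := by decide +kernel

theorem main_back : allN 1463 backOK = true := by decide +kernel

theorem main_reps : allN 21 repOK = true ∧ Main.reps.length = 21 ∧ look Main.lab 0 = 0 :=
  ⟨by decide +kernel, by decide +kernel, by decide +kernel⟩

end H16.J1.Uniq
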