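import Mathlib

/-!
A checker for logs of coset enumerations: the facts `φ c ^ g = φ d` are justified by earlier
facts, a relator, or free cancellation.
-/

set_option autoImplicit false

namespace H16.J1.Uniq

/-- Bounded conjunction. -/
def allN : ℕ → (ℕ → Bool) → Bool
  | 0, _ => true
  | n + 1, f => f n && allN n f

theorem allN_spec {n : ℕ} {f : ℕ → Bool} (h : allN n f = true) : ∀ i < n, f i = true := by
  induction n with
  | zero => intro i hi; omega
  | succ n ih =>
    simp only [allN, Bool.and_eq_true] at h
    intro i hi
    rcases Nat.lt_succ_iff_lt_or_eq.1 hi with h' | rfl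
    · exact ih h.2 i h'
    · exact h.1

/-- Look up in a table cut into chunks of length 64. -/
def look (T : List (List ℕ)) (i : ℕ) : ℕ := (T.getD (i / 64) []).getD (i % 64) 0

/-- The inverse of a letter; letters `≥ 8` are the identity. -/
def flip (g : ℕ) : ℕ := if g < 8 then (if g % 2 = 0 then g + 1 else g - 1) else g

/-- The inverse of a word. -/
def winv (w : List ℕ) : List ℕ := w.reverse.map flip

/-- Push a letter on a freely reduced stack. -/
def push (st : List ℕ) (g : ℕ) : List ℕ :=
  if 8 ≤ g then st else
    match st with
    | [] => [g]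
    | a :: l => if a = flip g then l else g :: a :: l

/-- Free reduction (reversed). -/
def red (w : List ℕ) : List ℕ := w.foldl push []

/-- An enumeration log. -/
structure Log where
  /-- Number of labels. -/
  labels : ℕ
  /-- `16 * parent + letter`. -/
  par : List (List ℕ)
  /-- Number of facts. -/
  count : ℕ
  /-- The packed facts. -/
  facts : List (List ℕ)
  /-- The relators. -/
  rels : List (List ℕ)

variable (L : Log)

def Log.fc (i : ℕ) : ℕ := look L.facts i % 4096
def Log.fg (i : ℕ) : ℕ := look L.facts i / 2 ^ 12 % 16
def Log.fd (i : ℕ) : ℕ := look L.facts i / 2 ^ 16 % 4096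
def Log.fk (i : ℕ) : ℕ := look L.facts i / 2 ^ 28 % 4
def Log.fr (i : ℕ) : ℕ := look L.facts i / 2 ^ 30 % 32
def Log.fi (i : ℕ) : ℕ := look L.facts i / 2 ^ 35 % 2
def Log.fo (i : ℕ) : ℕ := look L.facts i / 2 ^ 36 % 256

/-- Decode the list of references. -/
def decodeRefs : ℕ → ℕ → List ℕ
  | 0, _ => []
  | n + 1, x => if x = 0 then [] else (x % 2 ^ 16 - 1) :: decodeRefs n (x / 2 ^ 16)

def Log.refs (i : ℕ) : List ℕ := decodeRefs 64 (look L.facts i / 2 ^ 44)

/-- The parent of a label. -/
def Log.parent (d : ℕ) : ℕ := look L.par d / 16

/-- The letter leading to a label. -/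
def Log.letter (d : ℕ) : ℕ := look L.par d % 16

/-- Follow a path of references, returning its end point and its word. -/
def Log.walk (L : Log) (bound : ℕ) : List ℕ → ℕ → Option (ℕ × List ℕ)
  | [], d => some (d, [])
  | r :: rs, d =>
    let j := r / 2
    if j < bound then
      if r % 2 = 0 then
        if L.fc j = d then (Log.walk L bound rs (L.fd j)).map fun p => (p.1, L.fg j :: p.2) else none
      else
        if L.fd j = d then (Log.walk L bound rs (L.fc j)).map fun p => (p.1, flip (L.fg j) :: p.2) else none
    else none

/-- The relator used by a fact, rotated. -/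
def Log.relWord (i : ℕ) : List ℕ :=
  let w := L.rels.getD (L.fr i) []
  (if L.fi i = 0 then w else winv w).rotate (L.fo i)

/-- One fact is justified. -/
def Log.ok (i : ℕ) : Bool :=
  if L.fk i = 0 then
    decide (0 < L.fd i ∧ L.fd i < L.labels ∧ L.parent (L.fd i) = L.fc i ∧ L.letter (L.fd i) = L.fg i)
  else if L.fk i = 3 then decide (L.fc i = 0 ∧ L.fd i = 0 ∧ L.fg i < 6)
  else
    match L.walk i (L.refs i) (L.fd i) with
    | none => false
    | some (e, ws) => decide (e = L.fc i) &&
        if L.fk i = 1 then
          decide (L.fr i < L.rels.length) &&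
            ((L.fg i :: ws).filter fun g => decide (g < 8)) == L.relWord i
        else red (L.fg i :: ws) == []

/-- Parents precede their children. -/
def Log.parOK (d : ℕ) : Bool := decide (d = 0 ∨ L.parent d < d)

/-- The whole log is justified. -/
def Log.check : Bool := allN L.labels L.parOK && allN L.count L.ok

section Semantics

variable {G : Type*} [Group G] {α : Type*} [MulAction G α] (gen : ℕ → G)

/-- The value of a letter. -/
def val (g : ℕ) : G := if g < 8 then (if g % 2 = 0 then gen (g / 2) else (gen (g / 2))⁻¹) else 1

theorem val_flip (g : ℕ) : val gen (flip g) = (val gen g)⁻¹ := by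
  unfold val flip
  by_cases hg : g < 8
  · rw [if_pos hg, if_pos hg]
    by_cases h2 : g % 2 = 0
    · rw [if_pos h2, if_pos h2, if_pos (by omega), if_neg (by omega),
        show (g + 1) / 2 = g / 2 by omega]
    · rw [if_neg h2, if_neg h2, if_pos (by omega), if_pos (by omega),
        show (g - 1) / 2 = g / 2 by omega, inv_inv]
  · simp only [if_neg hg, inv_one]

/-- The value of a word. -/
def evalW (w : List ℕ) : G := (w.map (val gen)).prod

@[simp] theorem evalW_nil : evalW gen [] = 1 := rfl

@[simp] theorem evalW_cons (g : ℕ) (w : List ℕ) : evalW gen (g :: w) = val gen g * evalW gen w := by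
  simp [evalW]

theorem evalW_append (v w : List ℕ) : evalW gen (v ++ w) = evalW gen v * evalW gen w := by
  simp [evalW]

theorem evalW_winv (w : List ℕ) : evalW gen (winv w) = (evalW gen w)⁻¹ := by
  induction w with
  | nil => simp [winv]
  | cons a l ih =>
    rw [winv] at ih ⊢
    rw [List.reverse_cons, List.map_append, evalW_append, ih]
    simp [val_flip]

theorem evalW_filter (w : List ℕ) :
    evalW gen (w.filter fun g => decide (g < 8)) = evalW gen w := by
  induction w with
  | nil => rfl
  | cons a l ih =>
    by_cases h : a < 8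
    · simp [h, ih]
    · simp [h, ih, val]

theorem evalW_push (st : List ℕ) (g : ℕ) :
    evalW gen (push st g).reverse = evalW gen st.reverse * val gen g := by
  unfold push
  by_cases h : 8 ≤ g
  · rw [if_pos h, show val gen g = 1 by simp [val, show ¬ g < 8 by omega], mul_one]
  · rw [if_neg h]
    cases st with
    | nil => simp [evalW]
    | cons a l =>
      dsimp only
      by_cases ha : a = flip g
      · rw [if_pos ha, List.reverse_cons, evalW_append, ha]
        simp [val_flip]
      · rw [if_neg ha, List.reverse_cons, evalW_append]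
        simp [mul_assoc]

theorem evalW_red (w : List ℕ) : evalW gen (red w).reverse = evalW gen w := by
  have key : ∀ (w st : List ℕ), evalW gen (w.foldl push st).reverse = evalW gen st.reverse * evalW gen w := by
    intro w
    induction w with
    | nil => intro st; simp
    | cons a l ih => intro st; rw [List.foldl_cons, ih, evalW_push, evalW_cons, mul_assoc]
  simpa [red] using key w []

theorem evalW_rotate (w : List ℕ) (n : ℕ) (h : evalW gen w = 1) : evalW gen (w.rotate n) = 1 := by
  rw [List.rotate_eq_drop_append_take_mod, evalW_append]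
  have h2 : evalW gen (w.take (n % w.length)) * evalW gen (w.drop (n % w.length)) = 1 := by
    rw [← evalW_append, List.take_append_drop, h]
  exact mul_eq_one_comm.1 h2

/-- The action of a word, read from the left. -/
def act (w : List ℕ) (p : α) : α := (evalW gen w)⁻¹ • p

theorem act_cons (g : ℕ) (w : List ℕ) (p : α) : act gen (g :: w) p = act gen w (act gen [g] p) := by
  simp [act, smul_smul, mul_inv_rev]

theorem act_flip {g : ℕ} {p q : α} (h : act gen [g] p = q) : act gen [flip g] q = p := by
  subst h; simp [act, val_flip]

/-- The point of a label. -/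
def Log.pos (L : Log) (p₀ : α) : ℕ → α
  | 0 => p₀
  | d + 1 => if L.parent (d + 1) < d + 1 then act gen [L.letter (d + 1)] (Log.pos L p₀ (L.parent (d + 1)))
      else p₀
termination_by d => d

theorem Log.walk_spec (p₀ : α) {bound : ℕ}
    (hf : ∀ j < bound, act gen [L.fg j] (L.pos gen p₀ (L.fc j)) = L.pos gen p₀ (L.fd j)) :
    ∀ (rs : List ℕ) (d e : ℕ) (ws : List ℕ), L.walk bound rs d = some (e, ws) →
      act gen ws (L.pos gen p₀ d) = L.pos gen p₀ e := by
  intro rs
  induction rs with
  | nil =>
    intro d e ws h
    simp only [Log.walk, Option.some.injEq, Prod.mk.injEq] at h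
    obtain ⟨rfl, rfl⟩ := h
    simp [act]
  | cons r rs ih =>
    intro d e ws h
    simp only [Log.walk] at h
    by_cases hj : r / 2 < bound
    · rw [if_pos hj] at h
      by_cases h2 : r % 2 = 0
      · rw [if_pos h2] at h
        by_cases hd : L.fc (r / 2) = d
        · rw [if_pos hd, Option.map_eq_some_iff] at h
          obtain ⟨⟨e', ws'⟩, hw, heq⟩ := h
          simp only [Prod.mk.injEq] at heq
          obtain ⟨rfl, rfl⟩ := heq
          rw [act_cons, ← hd, hf _ hj]
          exact ih _ _ _ hw
        · rw [if_neg hd] at h; simp at h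
      · rw [if_neg h2] at h
        by_cases hd : L.fd (r / 2) = d
        · rw [if_pos hd, Option.map_eq_some_iff] at h
          obtain ⟨⟨e', ws'⟩, hw, heq⟩ := h
          simp only [Prod.mk.injEq] at heq
          obtain ⟨rfl, rfl⟩ := heq
          rw [act_cons, ← hd, act_flip gen (hf _ hj)]
          exact ih _ _ _ hw
        · rw [if_neg hd] at h; simp at h
    · rw [if_neg hj] at h; simp at h

/-- Every fact of a checked log holds. -/
theorem Log.sound (p₀ : α) (hcheck : L.check = true)
    (hrel : ∀ w ∈ L.rels, evalW gen w = 1) (hsub : ∀ g, g < 6 → act gen [g] p₀ = p₀) :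
    ∀ i < L.count, act gen [L.fg i] (L.pos gen p₀ (L.fc i)) = L.pos gen p₀ (L.fd i) := by
  simp only [Log.check, Bool.and_eq_true] at hcheck
  intro i
  induction i using Nat.strong_induction_on with
  | _ i ih =>
    intro hi
    have h := allN_spec hcheck.2 i hi
    unfold Log.ok at h
    by_cases h0 : L.fk i = 0
    · rw [if_pos h0, decide_eq_true_iff] at h
      obtain ⟨hpos, hlab, hp, hl⟩ := h
      have hd := allN_spec hcheck.1 _ hlab
      simp only [Log.parOK, decide_eq_true_eq] at hd
      obtain ⟨d, hd'⟩ : ∃ d, L.fd i = d + 1 := ⟨L.fd i - 1, by omega⟩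
      rw [hd'] at hp hl hd ⊢
      conv_rhs => rw [Log.pos]
      rw [if_pos (by omega), hp, hl]
    rw [if_neg h0] at h
    by_cases h3 : L.fk i = 3
    · rw [if_pos h3, decide_eq_true_iff] at h
      obtain ⟨hc, hd, hg⟩ := h
      rw [hc, hd, Log.pos]
      exact hsub _ hg
    rw [if_neg h3] at h
    cases hw : L.walk i (L.refs i) (L.fd i) with
    | none => rw [hw] at h; simp at h
    | some q =>
      obtain ⟨e, ws⟩ := q
      rw [hw] at h
      simp only [Bool.and_eq_true, decide_eq_true_eq] at h
      have hws := L.walk_spec gen p₀ (fun j hj => ih j hj (hj.trans hi)) _ _ _ _ hw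
      rw [h.1] at hws
      have hone : evalW gen (L.fg i :: ws) = 1 := by
        have h' := h.2
        by_cases h1 : L.fk i = 1
        · rw [if_pos h1, Bool.and_eq_true, decide_eq_true_iff, beq_iff_eq] at h'
          rw [← evalW_filter, h'.2, Log.relWord]
          apply evalW_rotate
          have hm : L.rels.getD (L.fr i) [] ∈ L.rels := by
            rw [List.getD_eq_getElem _ _ h'.1]; exact List.getElem_mem _
          split_ifs
          · exact hrel _ hm
          · rw [evalW_winv, hrel _ hm, inv_one]
        · rw [if_neg h1, beq_iff_eq] at h'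
          rw [← evalW_red, h']
          rfl
      have hgoal : act gen ws (act gen [L.fg i] (L.pos gen p₀ (L.fc i))) =
          act gen ws (L.pos gen p₀ (L.fd i)) := by
        rw [← act_cons, hws]
        simp only [act, hone, inv_one, one_smul]
      exact MulAction.injective _ hgoal

end Semantics

end H16.J1.Uniq
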