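import Cfsg.Agent.H16.Janko1.Model
import Cfsg.Agent.H16.Janko1.OrderThree
import Cfsg.Agent.H16.Janko1.Uniq.DataBadA
import Cfsg.Agent.H16.Janko1.Uniq.DataBadB
import Cfsg.Agent.H16.Janko1.Uniq.DataBadC
import Cfsg.Agent.H16.Janko1.Uniq.DataMain

/-!
Finite facts in `Z2 × A5` for the amalgam.
-/

set_option autoImplicit false

namespace H16.J1.Uniq

open Equiv

def pX : A5 := ⟨swap 0 1 * swap 2 3, Perm.mem_alternatingGroup.2 (by decide)⟩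
def pY : A5 := ⟨swap 0 2 * swap 2 4, Perm.mem_alternatingGroup.2 (by decide)⟩
def pZ : A5 := ⟨swap 0 3 * swap 1 2, Perm.mem_alternatingGroup.2 (by decide)⟩
def pW : A5 := ⟨swap 0 2 * swap 1 3, Perm.mem_alternatingGroup.2 (by decide)⟩
def pShift : A5 :=
  ⟨swap 0 4 * swap 4 3 * (swap 3 2 * swap 2 1), Perm.mem_alternatingGroup.2 (by decide)⟩

/-- Values of the first three generators. -/
def genM : ℕ → M := fun n =>
  if n = 0 then tau else if n = 1 then (1, pX) else if n = 2 then (1, pY) else 1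

/-- Evaluation of a word in the first three generators. -/
def valM : ℕ → M := fun g =>
  if g < 8 then (if g % 2 = 0 then genM (g / 2) else (genM (g / 2))⁻¹) else 1

/-- Evaluation of a word in the first three generators. -/
def evM (w : List ℕ) : M := (w.map valM).prod

theorem valM_eq (g : ℕ) : valM g = val genM g := rfl

theorem evM_eq (w : List ℕ) : evM w = evalW genM w := rfl

/-- The element of order three normalising the Sylow two-subgroup. -/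
abbrev mT : M := m3

/-- The four images of `tau` under the element of order seven and the rest of the basis. -/
def mw1 : M := (Multiplicative.ofAdd 1, pX)
def mw2 : M := mT * mw1 * mT⁻¹
def mw4 : M := mT * mw2 * mT⁻¹
def mx0 : M := (1, pZ)

/-- The element of order three in the last relation. -/
def mY : M := (1, pShift) * m3 * (1, pShift)⁻¹

/-- The involution inverting `mY`. -/
def mV : M := (1, pShift) * mv * (1, pShift)⁻¹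

/-- The product `tau ^ i * mw1 ^ j * mw2 ^ l`. -/
def comb (i j l : Fin 2) : M := tau ^ i.val * mw1 ^ j.val * mw2 ^ l.val

theorem shift_facts : (1, pShift) * tau * (1, pShift)⁻¹ = tau ∧ mV = (1, pX) ∧
    tau * mV = mw1 := by
  refine ⟨?_, ?_, ?_⟩ <;> decide +kernel

theorem comb_surj : ∀ b : A5, b ^ 2 = 1 → (b : Perm (Fin 5)) 4 = 4 → ∀ e : C2,
    ∃ i j l : Fin 2, comb i j l = (e, b) := by decide +kernel

theorem x0_unique : ∀ i j l a b c : Fin 2, comb a b c = comb i j l →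
    mw1 ^ i.val * mw2 ^ j.val * (comb a b c) ^ l.val = mw4 → comb a b c = mx0 := by decide +kernel

theorem x0_image : mx0 = comb 1 0 1 ∧ mw4 = mw1 * mx0 ∧ comb 0 1 1 = (1, pW) := by
  refine ⟨?_, ?_, ?_⟩ <;> decide +kernel

theorem mT_facts : mT * tau = tau * mT ∧ mw1 ≠ 1 ∧ mT ^ 3 = 1 := by
  refine ⟨?_, ?_, ?_⟩ <;> decide +kernel

theorem basis_mem : (mw1.2 ^ 2 = 1 ∧ (mw1.2 : Perm (Fin 5)) 4 = 4) ∧
    (mw2.2 ^ 2 = 1 ∧ (mw2.2 : Perm (Fin 5)) 4 = 4) := by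
  refine ⟨⟨?_, ?_⟩, ?_, ?_⟩ <;> decide +kernel

theorem cent_four : ∀ b : A5, b * pX = pX * b → b * pW = pW * b →
    b ^ 2 = 1 ∧ (b : Perm (Fin 5)) 4 = 4 := by decide +kernel

theorem four_mem : (pX ^ 2 = 1 ∧ (pX : Perm (Fin 5)) 4 = 4) ∧
    (pW ^ 2 = 1 ∧ (pW : Perm (Fin 5)) 4 = 4) := by
  refine ⟨⟨?_, ?_⟩, ?_, ?_⟩ <;> decide +kernel

theorem norm_four_mT : ∀ b : A5, b ^ 2 = 1 → (b : Perm (Fin 5)) 4 = 4 →
    ((y3 * b * y3⁻¹) ^ 2 = 1 ∧ ((y3 * b * y3⁻¹ : A5) : Perm (Fin 5)) 4 = 4) := by decide +kernel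

theorem norm_card : (Finset.univ.filter fun b : A5 =>
    ((b * pX * b⁻¹) ^ 2 = 1 ∧ ((b * pX * b⁻¹ : A5) : Perm (Fin 5)) 4 = 4) ∧
    ((b * pW * b⁻¹) ^ 2 = 1 ∧ ((b * pW * b⁻¹ : A5) : Perm (Fin 5)) 4 = 4)).card = 12 := by
  decide +kernel

theorem norm_four : ∀ b : A5,
    (((b * pX * b⁻¹) ^ 2 = 1 ∧ ((b * pX * b⁻¹ : A5) : Perm (Fin 5)) 4 = 4) ∧
    ((b * pW * b⁻¹) ^ 2 = 1 ∧ ((b * pW * b⁻¹ : A5) : Perm (Fin 5)) 4 = 4)) →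
    ∀ c : A5, c ^ 2 = 1 → (c : Perm (Fin 5)) 4 = 4 →
    ((b * c * b⁻¹) ^ 2 = 1 ∧ ((b * c * b⁻¹ : A5) : Perm (Fin 5)) 4 = 4) := by decide +kernel

theorem no_seven : ∀ m : M, m ^ 7 = 1 → m = 1 := by decide +kernel

/-- The word of the element `mT`. -/
def wT : List ℕ := [2, 4, 4, 2, 4, 2, 4]

/-- The word of `mY`. -/
def wY : List ℕ := [4, 2, 4, 4, 2, 4, 2, 4]

def wW1 : List ℕ := [0, 2]
def wX0 : List ℕ := [4, 2, 4, 4, 2, 4, 2, 4, 4, 2, 4]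
def wW2 : List ℕ := [0] ++ wX0

/-- The elements of order five attached to the four cases. -/
def mc : Fin 4 → M := ![evM [2, 4], evM [4, 2], evM [4, 2, 4], evM [2, 4, 2, 4, 2]]

theorem word_facts : evM wT = mT ∧ evM wY = mY ∧ evM wW1 = mw1 ∧ evM wW2 = mw2 ∧ evM wX0 = mx0 := by
  refine ⟨?_, ?_, ?_, ?_, ?_⟩ <;> decide +kernel

theorem rel_facts : evM [0, 0] = 1 ∧ evM [2, 2] = 1 ∧ evM [4, 4, 4] = 1 ∧
    evM [2, 4, 2, 4, 2, 4, 2, 4, 2, 4] = 1 ∧ evM [0, 2, 0, 2] = 1 ∧ evM [0, 4, 0, 5] = 1 := by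
  refine ⟨?_, ?_, ?_, ?_, ?_, ?_⟩ <;> decide +kernel

/-- Words for the elements of `A5`. -/
def a5Words : List (List ℕ) :=
  [[], [2], [4], [2, 4], [4, 2], [4, 4], [2, 4, 2], [2, 4, 4], [4, 2, 4], [4, 4, 2], [2, 4, 2, 4], [2, 4, 4, 2], [4, 2, 4, 2], [4, 2, 4, 4], [4, 4, 2, 4], [2, 4, 2, 4, 2], [2, 4, 2, 4, 4], [2, 4, 4, 2, 4], [4, 2, 4, 2, 4], [4, 2, 4, 4, 2], [4, 4, 2, 4, 2], [4, 4, 2, 4, 4], [2, 4, 2, 4, 2, 4], [2, 4, 2, 4, 4, 2], [2, 4, 4, 2, 4, 2], [2, 4, 4, 2, 4, 4], [4, 2, 4, 2, 4, 4], [4, 2, 4, 4, 2, 4], [4, 4, 2, 4, 2, 4], [2, 4, 2, 4, 2, 4, 4], [2, 4, 2, 4, 4, 2, 4], [2, 4, 4, 2, 4, 2, 4], [4, 2, 4, 2, 4, 4, 2], [4, 2, 4, 4, 2, 4, 2], [4, 2, 4, 4, 2, 4, 4], [4, 4, 2, 4, 2, 4, 4], [2, 4, 2, 4, 2, 4, 4, 2], [2, 4, 2, 4, 4, 2, 4, 2], [2, 4, 2, 4, 4, 2, 4, 4], [2, 4, 4, 2, 4, 2, 4, 4], [4, 2, 4, 2, 4, 4, 2, 4], [4, 2,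 4, 4, 2, 4, 2, 4], [4, 4, 2, 4, 2, 4, 4, 2], [2, 4, 2, 4, 2, 4, 4, 2, 4], [2, 4, 2, 4, 4, 2, 4, 2, 4], [2, 4, 4, 2, 4, 2, 4, 4, 2], [4, 2, 4, 2, 4, 4, 2, 4, 2], [4, 2, 4, 2, 4, 4, 2, 4, 4], [4, 2, 4, 4, 2, 4, 2, 4, 4], [4, 4, 2, 4, 2, 4, 4, 2, 4], [2, 4, 2, 4, 2, 4, 4, 2, 4, 2], [2, 4, 2, 4, 2, 4, 4, 2, 4, 4], [2, 4, 2, 4, 4, 2, 4, 2, 4, 4], [2, 4, 4, 2, 4, 2, 4, 4, 2, 4], [4, 2, 4, 4, 2, 4, 2, 4, 4, 2], [4, 4, 2, 4, 2, 4, 4, 2, 4, 2], [2, 4, 2, 4, 4, 2, 4, 2, 4, 4, 2], [2, 4, 4, 2, 4, 2, 4, 4, 2, 4, 2], [4, 2, 4, 4, 2, 4, 2, 4, 4, 2, 4], [2, 4, 2, 4, 4, 2, 4, 2, 4, 4, 2, 4]]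

theorem gen_sub : ∀ b : A5, ∃ w ∈ a5Words, evM w = (1, b) := by decide +kernel

/-- Preimages of `tau`: `mw1 = σ tau`, and `σ^(-5) tau`, `σ^(-1) tau` in the two cases. -/
def preT : Fin 2 → M := ![(Multiplicative.ofAdd 1, pZ), (1, pW)]

theorem five_cases : ∀ ε : Fin 2, ∀ b : A5, b ^ 5 = 1 → b ≠ 1 →
    (preT ε).2 * b * (preT ε).2⁻¹ = b⁻¹ →
    ∃ i : Fin 2, ∃ n : Fin 5, b ^ n.val = (mc ⟨2 * ε.val + i.val, by omega⟩).2 := by decide +kernel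

theorem mc_fst : ∀ i : Fin 4, (mc i).1 = 1 := by decide +kernel

end H16.J1.Uniq
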