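import Cfsg.Agent.H16.Janko1.Uniq.CheckBad
import Cfsg.Agent.H16.Janko1.Uniq.CheckMain

/-!
What the enumeration logs say about an actual group.
-/

set_option autoImplicit false

namespace H16.J1.Uniq

section

variable {G : Type*} [Group G] {α : Type*} [MulAction G α] (gen : ℕ → G) (p₀ : α)

theorem collapse_fixed (L : Log) (path : List ℕ) (hc : L.check = true)
    (hp : L.collapse path = true) (hrel : ∀ w ∈ L.rels, evalW gen w = 1)
    (hsub : ∀ g, g < 6 → act gen [g] p₀ = p₀) : act gen [6] p₀ = p₀ := by
  unfold Log.collapse at hp
  cases hw : L.walk L.count path 0 with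
  | none => rw [hw] at hp; simp at hp
  | some q =>
    obtain ⟨e, ws⟩ := q
    rw [hw] at hp
    simp only [Bool.and_eq_true, decide_eq_true_eq, beq_iff_eq] at hp
    have h := L.walk_spec gen p₀ (L.sound gen p₀ hc hrel hsub) _ _ _ _ hw
    rw [hp.1, Log.pos] at h
    rw [act, ← evalW_filter, hp.2] at h
    exact h

variable (hrel : ∀ w ∈ Main.log.rels, evalW gen w = 1) (hsub : ∀ g, g < 6 → act gen [g] p₀ = p₀)

/-- The point of a table row. -/
noncomputable def point (x : ℕ) : α := Main.log.pos gen p₀ (look Main.lab x)

theorem point_zero : point gen p₀ 0 = p₀ := by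
  rw [point, main_reps.2.2, Log.pos]

theorem tab_facts {x q : ℕ} (hx : x < 1463) (hq : q < 4) :
    look Main.tab (4 * x + q) < 1463 ∧ look Main.tabInv (4 * x + q) < 1463 ∧
      look Main.tabInv (4 * look Main.tab (4 * x + q) + q) = x ∧
      look Main.tab (4 * look Main.tabInv (4 * x + q) + q) = x := by
  have h := allN_spec main_edges (4 * x + q) (by omega)
  simp only [edgeOK, Bool.and_eq_true, decide_eq_true_eq, show (4 * x + q) / 4 = x by omega,
    show (4 * x + q) % 4 = q by omega] at h
  exact ⟨h.1.1.1.1.1, h.1.1.1.1.2, h.1.1.1.2, h.1.1.2⟩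

include hrel hsub in
theorem point_edge {x q : ℕ} (hx : x < 1463) (hq : q < 4) :
    act gen [2 * q] (point gen p₀ x) = point gen p₀ (look Main.tab (4 * x + q)) := by
  have h := allN_spec main_edges (4 * x + q) (by omega)
  simp only [edgeOK, Bool.and_eq_true, decide_eq_true_eq, show (4 * x + q) / 4 = x by omega,
    show (4 * x + q) % 4 = q by omega] at h
  have hf := Main.log.sound gen p₀ main_check hrel hsub _ h.1.2
  have h2 := h.2
  split_ifs at h2
  · rw [decide_eq_true_iff] at h2
    rw [h2.1, h2.2.1, h2.2.2] at hf
    exact hf
  · rw [decide_eq_true_iff] at h2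
    have hf' := act_flip gen hf
    rw [h2.1, h2.2.1, h2.2.2] at hf'
    exact hf'

theorem stp_lt {x : ℕ} (hx : x < 1463) (g : ℕ) : stp x g < 1463 := by
  unfold stp
  split_ifs with h1 h2
  · exact (tab_facts hx (by omega)).1
  · exact (tab_facts hx (by omega)).2.1
  · exact hx

include hrel hsub in
theorem point_stp {x : ℕ} (hx : x < 1463) (g : ℕ) :
    point gen p₀ (stp x g) = act gen [g] (point gen p₀ x) := by
  unfold stp
  split_ifs with h1 h2
  · have h := point_edge gen p₀ hrel hsub hx (q := g / 2) (by omega)
    rw [show 2 * (g / 2) = g by omega] at h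
    exact h.symm
  · have hy := tab_facts hx (q := g / 2) (by omega)
    have h := point_edge gen p₀ hrel hsub hy.2.1 (q := g / 2) (by omega)
    rw [hy.2.2.2] at h
    have := act_flip gen h
    rw [show flip (2 * (g / 2)) = g by unfold flip; rw [if_pos (by omega), if_pos (by omega)]; omega] at this
    exact this.symm
  · simp [act, evalW, val, h1]

theorem run_lt {x : ℕ} (hx : x < 1463) (w : List ℕ) : run w x < 1463 := by
  induction w generalizing x with
  | nil => exact hx
  | cons g w ih => exact ih (stp_lt hx g)

include hrel hsub in
theorem point_run {x : ℕ} (hx : x < 1463) (w : List ℕ) :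
    point gen p₀ (run w x) = act gen w (point gen p₀ x) := by
  induction w generalizing x with
  | nil => simp [run, act]
  | cons g w ih => rw [run, ih (stp_lt hx g), point_stp gen p₀ hrel hsub hx, ← act_cons]

include hsub in
theorem act_fix (w : List ℕ) (hw : ∀ g ∈ w, g < 6) : act gen w p₀ = p₀ := by
  induction w with
  | nil => simp [act]
  | cons g w ih =>
    rw [act_cons, hsub g (hw g List.mem_cons_self)]
    exact ih fun a ha => hw a (List.mem_cons_of_mem _ ha)

include hrel hsub in
theorem point_ne_zero (hmove : act gen [6] p₀ ≠ p₀) {x : ℕ} (hx : x < 1463) (h0 : x ≠ 0) :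
    point gen p₀ x ≠ p₀ := by
  intro hp
  have hb := allN_spec main_back x hx
  simp only [backOK, Bool.or_eq_true, beq_iff_eq, h0, false_or, Bool.and_eq_true, decide_eq_true_eq,
    List.all_eq_true] at hb
  obtain ⟨⟨hw, hn⟩, hr⟩ := hb
  set n := repOf x
  rw [main_reps.2.1] at hn
  have h1 : point gen p₀ (Main.reps.getD n 0) = p₀ := by
    rw [← hr, point_run gen p₀ hrel hsub hx, hp, act_fix gen p₀ hsub _ hw]
  have hk := allN_spec main_reps.1 n hn
  simp only [repOK, Bool.and_eq_true, beq_iff_eq] at hk
  obtain ⟨hk1, hk2⟩ := hk
  set w := Main.repWord.getD n []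
  have hwfix : act gen w p₀ = p₀ := by
    have := point_run gen p₀ hrel hsub (show 0 < 1463 by norm_num) w
    rw [hk1, h1, point_zero] at this
    exact this.symm
  have hwfix' : act gen (winv w) p₀ = p₀ := by
    have h : (evalW gen w)⁻¹ • p₀ = p₀ := hwfix
    show (evalW gen (winv w))⁻¹ • p₀ = p₀
    rw [evalW_winv, inv_inv]
    calc evalW gen w • p₀ = evalW gen w • ((evalW gen w)⁻¹ • p₀) := by rw [h]
      _ = p₀ := by simp
  have hmoves : ∀ js : List ℕ, act gen (js.flatMap (moveWord w)) p₀ = p₀ := by
    intro js
    induction js with
    | nil => simp [act]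
    | cons j js ih =>
      rw [List.flatMap_cons]
      have : act gen (moveWord w j ++ js.flatMap (moveWord w)) p₀ =
          act gen (js.flatMap (moveWord w)) (act gen (moveWord w j) p₀) := by
        simp [act, evalW_append, smul_smul]
      rw [this, show act gen (moveWord w j) p₀ = p₀ by
        unfold moveWord
        split_ifs with a b
        · exact hsub j a
        · exact hwfix
        · exact hwfix']
      exact ih
  have h2 := point_run gen p₀ hrel hsub (show 0 < 1463 by norm_num)
    ((Main.repPath.getD n []).flatMap (moveWord w))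
  rw [hk2, point_stp gen p₀ hrel hsub (by norm_num), point_zero, hmoves] at h2
  exact hmove h2

end

/-- The permutation of the table given by one generator. -/
def tabPerm (q : Fin 4) : Equiv.Perm (Fin 1463) where
  toFun x := ⟨look Main.tab (4 * x.val + q.val), (tab_facts x.isLt q.isLt).1⟩
  invFun x := ⟨look Main.tabInv (4 * x.val + q.val), (tab_facts x.isLt q.isLt).2.1⟩
  left_inv x := Fin.ext (tab_facts x.isLt q.isLt).2.2.1
  right_inv x := Fin.ext (tab_facts x.isLt q.isLt).2.2.2

/-- The group of the table. -/
def tableGroup : Subgroup (Equiv.Perm (Fin 1463)) := Subgroup.closure (Set.range tabPerm)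

section

variable {G : Type*} [Group G] {α : Type*} [MulAction G α] [FaithfulSMul G α]

/-- A faithful action satisfying the relators is the action of the table group. -/
theorem iso_tableGroup (gen : ℕ → G) (p₀ : α) (hrel : ∀ w ∈ Main.log.rels, evalW gen w = 1)
    (hsub : ∀ g, g < 6 → act gen [g] p₀ = p₀) (hmove : act gen [6] p₀ ≠ p₀)
    (hcard : Nat.card α = 1463)
    (hstab : ∀ g : G, g • p₀ = p₀ → g ∈ Subgroup.closure (Set.range fun q : Fin 4 => gen q)) :
    Nonempty (G ≃* tableGroup) := by
  haveI : Finite α := Nat.finite_of_card_ne_zero (by omega)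
  set K := Subgroup.closure (Set.range fun q : Fin 4 => gen q) with hK
  let f : Fin 1463 → α := fun x => point gen p₀ x.val
  have hval : ∀ g, val gen g ∈ K := fun g => by
    unfold val
    split_ifs with h1 h2
    · exact Subgroup.subset_closure ⟨⟨g / 2, by omega⟩, rfl⟩
    · exact inv_mem (Subgroup.subset_closure ⟨⟨g / 2, by omega⟩, rfl⟩)
    · exact one_mem _
  have hevalK : ∀ w, evalW gen w ∈ K := fun w => by
    induction w with
    | nil => exact one_mem _
    | cons g w ih => rw [evalW_cons]; exact mul_mem (hval g) ih
  -- every point of the table is an image of the base point under `K`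
  have horb : ∀ d, ∃ k ∈ K, k • p₀ = Main.log.pos gen p₀ d := by
    intro d
    induction d using Nat.strong_induction_on with
    | _ d ih =>
      cases d with
      | zero => exact ⟨1, one_mem _, by rw [Log.pos, one_smul]⟩
      | succ d =>
        rw [Log.pos]
        split_ifs with h
        · obtain ⟨k, hk, hkp⟩ := ih _ h
          exact ⟨(evalW gen [Main.log.letter (d + 1)])⁻¹ * k, mul_mem (inv_mem (hevalK _)) hk,
            by rw [← hkp, mul_smul]; rfl⟩
        · exact ⟨1, one_mem _, one_smul _ _⟩
  have finj : Function.Injective f := by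
    -- every point is carried to the base point inside the table
    have htrans : ∀ x < 1463, ∃ w, run w 0 = x := by
      intro x hx
      by_cases h0 : x = 0
      · exact ⟨[], by rw [h0]; rfl⟩
      · have hb := allN_spec main_back x hx
        simp only [backOK, Bool.or_eq_true, beq_iff_eq, h0, false_or, Bool.and_eq_true,
          decide_eq_true_eq] at hb
        obtain ⟨⟨-, hn⟩, hr⟩ := hb
        rw [main_reps.2.1] at hn
        have hk := allN_spec main_reps.1 _ hn
        simp only [repOK, Bool.and_eq_true, beq_iff_eq] at hk
        refine ⟨Main.repWord.getD (repOf x) [] ++ winv (backWord x), ?_⟩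
        have happ : ∀ (v w : List ℕ) (y : ℕ), run (v ++ w) y = run w (run v y) := by
          intro v
          induction v with
          | nil => intro w y; rfl
          | cons a v ih => intro w y; exact ih w _
        have hflip : ∀ (g y : ℕ), y < 1463 → stp (stp y g) (flip g) = y := by
          intro g y hy
          unfold stp flip
          by_cases hg : g < 8
          · rw [if_pos hg, if_pos hg]
            by_cases h2 : g % 2 = 0
            · rw [if_pos h2, if_pos h2, if_pos (by omega), if_neg (by omega),
                show (g + 1) / 2 = g / 2 by omega]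
              exact (tab_facts hy (by omega)).2.2.1
            · rw [if_neg h2, if_neg h2, if_pos (by omega), if_pos (by omega),
                show (g - 1) / 2 = g / 2 by omega]
              exact (tab_facts hy (by omega)).2.2.2
          · simp [hg]
        have hwinv : ∀ (v : List ℕ) (y : ℕ), y < 1463 → run (winv v) (run v y) = y := by
          intro v
          induction v with
          | nil => intro y _; rfl
          | cons a v ih =>
            intro y hy
            rw [winv, List.reverse_cons, List.map_append, happ]
            show run [flip a] (run (winv v) (run v (stp y a))) = y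
            rw [ih _ (stp_lt hy a)]
            exact hflip a y hy
        rw [happ, hk.1, ← hr, hwinv _ x hx]
    intro a b hab
    obtain ⟨wa, hwa⟩ := htrans a a.isLt
    have hwb : run (winv wa) a.val = 0 ∧ point gen p₀ (run (winv wa) b.val) = p₀ := by
      constructor
      · have h0 : point gen p₀ (run (winv wa) a.val) = p₀ := by
          rw [point_run gen p₀ hrel hsub a.isLt, show point gen p₀ a.val =
            act gen wa p₀ by rw [← hwa, point_run gen p₀ hrel hsub (by norm_num), point_zero]]
          simp [act, evalW_winv]
        by_contra hne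
        exact point_ne_zero gen p₀ hrel hsub hmove (run_lt a.isLt _) hne h0
      · rw [point_run gen p₀ hrel hsub b.isLt, show point gen p₀ b.val = act gen wa p₀ by
          rw [show point gen p₀ b.val = point gen p₀ a.val from hab.symm, ← hwa,
            point_run gen p₀ hrel hsub (by norm_num), point_zero]]
        simp [act, evalW_winv]
    have hb0 : run (winv wa) b.val = 0 := by
      by_contra hne
      exact point_ne_zero gen p₀ hrel hsub hmove (run_lt b.isLt _) hne hwb.2
    have inj : ∀ (v : List ℕ) (y z : ℕ), y < 1463 → z < 1463 → run v y = run v z → y = z := by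
      intro v
      induction v with
      | nil => intro y z _ _ h; exact h
      | cons g v ih =>
        intro y z hy hz h
        have h' : stp y g = stp z g := ih _ _ (stp_lt hy g) (stp_lt hz g) h
        unfold stp at h'
        split_ifs at h' with c1 c2
        · have := congrArg (fun r => look Main.tabInv (4 * r + g / 2)) h'
          simpa only [(tab_facts hy (show g / 2 < 4 by omega)).2.2.1,
            (tab_facts hz (show g / 2 < 4 by omega)).2.2.1] using this
        · have := congrArg (fun r => look Main.tab (4 * r + g / 2)) h'
          simpa only [(tab_facts hy (show g / 2 < 4 by omega)).2.2.2,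
            (tab_facts hz (show g / 2 < 4 by omega)).2.2.2] using this
        · exact h'
    exact Fin.ext (inj _ _ _ a.isLt b.isLt (hwb.1.trans hb0.symm))
  have hbij : Function.Bijective f :=
    (Nat.bijective_iff_injective_and_card f).2 ⟨finj, by rw [hcard, Nat.card_fin]⟩
  let ε : Fin 1463 ≃ α := Equiv.ofBijective f hbij
  have hKtop : K = ⊤ := by
    rw [eq_top_iff]
    intro g _
    obtain ⟨x, hx⟩ := hbij.2 (g • p₀)
    obtain ⟨k, hk, hkp⟩ := horb (look Main.lab x.val)
    have hkg : k⁻¹ * g ∈ K := hstab _ (by
      have : g • p₀ = k • p₀ := by rw [hkp]; exact hx.symm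
      rw [mul_smul, this, inv_smul_smul])
    have := mul_mem hk hkg
    rwa [mul_inv_cancel_left] at this
  let π : G →* Equiv.Perm (Fin 1463) :=
    ε.symm.permCongrHom.toMonoidHom.comp (MulAction.toPermHom G α)
  have hinj : Function.Injective π :=
    ε.symm.permCongrHom.injective.comp MulAction.toPerm_injective
  have himg : ∀ q : Fin 4, π (gen q) = (tabPerm q)⁻¹ := by
    intro q
    rw [eq_inv_iff_mul_eq_one]
    refine Equiv.ext fun x => ?_
    show ε.symm (gen q • ε (tabPerm q x)) = x
    rw [Equiv.symm_apply_eq]
    show gen q • point gen p₀ (look Main.tab (4 * x.val + q.val)) = point gen p₀ x.val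
    rw [← point_edge gen p₀ hrel hsub x.isLt q.isLt]
    simp [act, evalW, val, show 2 * q.val < 8 by omega, show 2 * q.val / 2 = q.val by omega]
  have hrange : π.range = tableGroup := by
    rw [MonoidHom.range_eq_map, ← hKtop, hK, MonoidHom.map_closure, tableGroup]
    apply le_antisymm
    · rw [Subgroup.closure_le]
      rintro _ ⟨_, ⟨q, rfl⟩, rfl⟩
      rw [SetLike.mem_coe, himg]
      exact inv_mem (Subgroup.subset_closure ⟨q, rfl⟩)
    · rw [Subgroup.closure_le]
      rintro _ ⟨q, rfl⟩
      have h : (tabPerm q)⁻¹ ∈ Subgroup.closure (π '' Set.range fun q : Fin 4 => gen q) :=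
        himg q ▸ Subgroup.subset_closure ⟨gen q, ⟨q, rfl⟩, rfl⟩
      simpa using inv_mem h
  exact ⟨(MonoidHom.ofInjective hinj).trans (MulEquiv.subgroupCongr hrange)⟩

end

end H16.J1.Uniq
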