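import Cfsg.Agent.H16.Janko1.Main
import Cfsg.Agent.H16.Janko1.Uniq.Model
import Cfsg.Agent.H16.Janko1.Uniq.Semantics

/-!
The amalgam inside a group with centraliser `Z2 × A5`.
-/

set_option autoImplicit false

namespace H16.J1.Uniq

open Subgroup
open scoped Pointwise

universe u

variable {G : Type u} [Group G] [Finite G] [IsSimpleGroup G] (S : Setup G)

omit [IsSimpleGroup G] in
theorem Setup.mem_syl {m : M} : S.emb m ∈ S.syl ↔ m.2 ^ 2 = 1 ∧ (m.2 : Equiv.Perm (Fin 5)) 4 = 4 :=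
  Subgroup.mem_map_iff_mem S.inj

omit [IsSimpleGroup G] in
theorem syl_sq {x : G} (hx : x ∈ S.syl) : x * x = 1 := by
  obtain ⟨⟨i, b⟩, hb, rfl⟩ := hx
  rw [← map_mul]
  have hi : ∀ i : C2, i * i = 1 := by decide
  rw [show ((i, b) : M) * (i, b) = 1 from Prod.ext (hi i) (mul_self_of_sq hb.1), map_one]

omit [IsSimpleGroup G] in
theorem syl_comm {x y : G} (hx : x ∈ S.syl) (hy : y ∈ S.syl) : x * y = y * x := by
  have h := syl_sq S (mul_mem hx hy)
  have e1 : x⁻¹ = x := inv_eq_of_mul_eq_one_right (syl_sq S hx)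
  have e2 : y⁻¹ = y := inv_eq_of_mul_eq_one_right (syl_sq S hy)
  have e3 : (x * y)⁻¹ = x * y := inv_eq_of_mul_eq_one_right h
  rw [mul_inv_rev, e1, e2] at e3
  exact e3.symm

omit [IsSimpleGroup G] in
theorem t_mem_syl : S.t ∈ S.syl :=
  (Setup.mem_syl S).2 ⟨one_pow 2, rfl⟩

omit [IsSimpleGroup G] in
theorem syl_conj_card_t : (∀ x : G, (∀ y ∈ S.syl, x * y = y * x) → x ∈ S.syl) := by
  intro x hx
  obtain ⟨⟨i, b⟩, rfl⟩ := S.mem x (hx _ (t_mem_syl S))
  have h : ∀ a : A5, a ^ 2 = 1 → (a : Equiv.Perm (Fin 5)) 4 = 4 → b * a = a * b := by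
    intro a ha1 ha2
    have := hx (S.emb (1, a)) ((Setup.mem_syl S).2 ⟨ha1, ha2⟩)
    rw [← map_mul, ← map_mul] at this
    exact congrArg Prod.snd (S.inj this)
  exact (Setup.mem_syl S).2 (cent_four b (h pX four_mem.1.1 four_mem.1.2) (h pW four_mem.2.1 four_mem.2.2))

/-- The conjugation of `A5` by a transposition. -/
def outA5 : A5 ≃* A5 := MulAut.conjNormal (Equiv.swap (0 : Fin 5) 1)

theorem outA5_facts : (∀ b : A5, b ^ 2 = 1 → (b : Equiv.Perm (Fin 5)) 4 = 4 →
    ((outA5 b : A5) : Equiv.Perm (Fin 5)) 4 = 4) ∧ outA5 y3 = y3⁻¹ := by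
  have e : ∀ b : A5, ((outA5 b : A5) : Equiv.Perm (Fin 5)) =
      Equiv.swap 0 1 * (b : Equiv.Perm (Fin 5)) * (Equiv.swap 0 1)⁻¹ := fun b =>
    MulAut.conjNormal_apply _ _
  refine ⟨fun b _ h4 => ?_, Subtype.ext ?_⟩
  · rw [e, Equiv.Perm.mul_apply, Equiv.Perm.mul_apply, Equiv.swap_inv]
    rw [show Equiv.swap (0 : Fin 5) 1 4 = 4 by decide, h4]
    decide
  · rw [e]
    decide +kernel

/-- The outer automorphism of the model. -/
def outM : M ≃* M := MulEquiv.prodCongr (MulEquiv.refl C2) outA5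

/-- The setup composed with the outer automorphism of the model. -/
def Setup.twist : Setup G where
  emb := S.emb.comp outM.toMonoidHom
  inj := S.inj.comp outM.injective
  mem g hg := by
    have e : outM tau = tau := Prod.ext rfl (map_one outA5)
    simp only [MonoidHom.comp_apply, MulEquiv.coe_toMonoidHom, e] at hg
    obtain ⟨m, rfl⟩ := S.mem g hg
    exact ⟨outM.symm m, by simp⟩
  odd := S.odd
  dvd := S.dvd

include S in
theorem card_eq' : Nat.card G = 175560 := by
  classical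
  haveI : Fintype (Cfsg.IrrCharacter G) := Fintype.ofFinite _
  exact S.card_eq

theorem fac168 : (168 : ℕ).factorization 7 = 1 := by
  rw [show (168 : ℕ) = 7 ^ 1 * 24 by norm_num, Nat.factorization_mul (by norm_num) (by norm_num),
    Finsupp.add_apply, Nat.factorization_pow, Finsupp.smul_apply,
    Nat.Prime.factorization_self (by norm_num), Nat.factorization_eq_zero_of_not_dvd (by norm_num)]
  rfl

include S in
theorem factor_three : (Nat.card G).factorization 3 = 1 ∧ ¬ 25 ∣ Nat.card G ∧ ¬ 9 ∣ Nat.card G := by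
  have h := card_eq' S
  refine ⟨?_, by rw [h]; norm_num, by rw [h]; norm_num⟩
  haveI : Fact (Nat.Prime 3) := ⟨by norm_num⟩
  rw [h, show (175560 : ℕ) = 3 ^ 1 * 58520 by norm_num, Nat.factorization_mul (by norm_num) (by norm_num)]
  simp only [Finsupp.add_apply, Nat.factorization_pow, Finsupp.smul_apply, smul_eq_mul]
  rw [Nat.Prime.factorization_self (by norm_num), Nat.factorization_eq_zero_of_not_dvd (by norm_num)]

theorem card_cent_y : Nat.card (centralizer ({S.y} : Set G)) = 30 := by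
  classical
  obtain ⟨a, b, ha, hb, hC, -⟩ := S.three_local
  have hd : Nat.card (centralizer ({S.y} : Set G)) ∣ 175560 :=
    card_eq' S ▸ Subgroup.card_subgroup_dvd_card _
  rw [hC] at hd
  by_contra hne
  have hab : 6 * a * b = 6 := by
    rcases ha with rfl | rfl | rfl <;> rcases hb with rfl | rfl | rfl <;>
      first
      | rfl
      | (exfalso; norm_num at hd; done)
      | (exfalso; omega)
  rw [hab] at hC
  haveI : Fact (Nat.Prime 3) := ⟨by norm_num⟩
  have hy : orderOf S.y = 3 := orderOf_eq_prime S.y_facts.1 S.y_facts.2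
  let P : Sylow 3 G := Sylow.ofCard (zpowers S.y)
    (by rw [Nat.card_zpowers, hy, (factor_three S).1]; norm_num)
  have hP := P.card_eq_index_normalizer
  have hmod := card_sylow_modEq_one 3 G
  set N := normalizer ((P : Subgroup G) : Set G) with hN
  have hCN : centralizer ({S.y} : Set G) ≤ N := by
    intro g hg
    rw [mem_centralizer_singleton_iff] at hg
    rw [hN, mem_normalizer_iff]
    intro h
    show h ∈ zpowers S.y ↔ g * h * g⁻¹ ∈ zpowers S.y
    constructor
    · rintro ⟨k, rfl⟩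
      exact ⟨k, by rw [(show Commute g (S.y ^ k) from (show Commute g S.y from hg).zpow_right k).eq,
        mul_inv_cancel_right]⟩
    · rintro ⟨k, hk⟩
      refine ⟨k, ?_⟩
      have := (show Commute g (S.y ^ k) from (show Commute g S.y from hg).zpow_right k).eq
      calc S.y ^ k = g⁻¹ * (g * S.y ^ k) := by group
        _ = g⁻¹ * (S.y ^ k * g) := by rw [this]
        _ = g⁻¹ * (g * h * g⁻¹ * g) := by rw [show S.y ^ k = g * h * g⁻¹ from hk]
        _ = h := by group
  have hsplit : ∀ g ∈ N, g ∈ centralizer ({S.y} : Set G) ∨ g * S.v ∈ centralizer ({S.y} : Set G) := by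
    intro g hg
    rw [hN, mem_normalizer_iff] at hg
    have h1 : g * S.y * g⁻¹ ∈ zpowers S.y := (hg _).1 (mem_zpowers _)
    obtain ⟨k, hk⟩ := h1
    simp only [] at hk
    rw [← zpow_mod_orderOf, hy] at hk
    have hk3 : k % (3 : ℕ) = 0 ∨ k % (3 : ℕ) = 1 ∨ k % (3 : ℕ) = 2 := by omega
    rcases hk3 with h | h | h <;> rw [h] at hk
    · exfalso
      rw [zpow_zero] at hk
      exact S.y_facts.2 (by simpa using hk.symm)
    · left
      rw [zpow_one] at hk
      rw [mem_centralizer_singleton_iff]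
      exact mul_inv_eq_iff_eq_mul.1 hk.symm
    · right
      rw [mem_centralizer_singleton_iff]
      have e : g * S.y * g⁻¹ = S.y⁻¹ := by
        rw [← hk, show (2 : ℤ) = ((2 : ℕ) : ℤ) by norm_num, zpow_natCast]
        exact (inv_eq_of_mul_eq_one_right (by rw [← pow_succ']; exact S.y_facts.1)).symm
      refine mul_inv_eq_iff_eq_mul.1 ?_
      calc g * S.v * S.y * (g * S.v)⁻¹ = g * (S.v * S.y * S.v⁻¹) * g⁻¹ := by group
        _ = (g * S.y * g⁻¹)⁻¹ := by rw [S.v_inv]; group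
        _ = S.y := by rw [e, inv_inv]
  have hvN : S.v ∈ N := by
    rw [hN, mem_normalizer_iff]
    intro h
    show h ∈ zpowers S.y ↔ S.v * h * S.v⁻¹ ∈ zpowers S.y
    have hinv : ∀ k : ℤ, S.v * S.y ^ k * S.v⁻¹ = S.y ^ (-k) := fun k => by
      rw [← conj_zpow, S.v_inv, inv_zpow, zpow_neg]
    constructor
    · rintro ⟨k, rfl⟩; exact ⟨-k, (hinv k).symm⟩
    · rintro ⟨k, hk⟩
      refine ⟨-k, ?_⟩
      have hk' : S.y ^ k = S.v * h * S.v⁻¹ := hk
      have := hinv (-k)
      rw [neg_neg, hk'] at this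
      simpa using this
  have hNcard : Nat.card N = 12 := by
    have hidx : ((centralizer ({S.y} : Set G)).subgroupOf N).index = 2 := by
      rw [Subgroup.index_eq_two_iff]
      refine ⟨⟨S.v, hvN⟩, fun g => ?_⟩
      simp only [mem_subgroupOf, Subgroup.coe_mul]
      rcases hsplit g.1 g.2 with h | h
      · refine Or.inr ⟨h, fun hgv => ?_⟩
        have hv : S.v ∈ centralizer ({S.y} : Set G) := by
          have := mul_mem (inv_mem h) hgv
          rwa [inv_mul_cancel_left] at this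
        rw [mem_centralizer_singleton_iff] at hv
        have e := S.v_inv
        rw [hv, mul_inv_cancel_right] at e
        have : S.y ^ 2 = 1 := by rw [pow_two]; nth_rw 2 [e]; exact mul_inv_cancel _
        have h3 := S.y_facts.1
        rw [pow_succ, this, one_mul] at h3
        exact S.y_facts.2 h3
      · refine Or.inl ⟨h, fun hg' => ?_⟩
        have hv : S.v ∈ centralizer ({S.y} : Set G) := by
          have := mul_mem (inv_mem hg') h
          rwa [inv_mul_cancel_left] at this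
        rw [mem_centralizer_singleton_iff] at hv
        have e := S.v_inv
        rw [hv, mul_inv_cancel_right] at e
        have : S.y ^ 2 = 1 := by rw [pow_two]; nth_rw 2 [e]; exact mul_inv_cancel _
        have h3 := S.y_facts.1
        rw [pow_succ, this, one_mul] at h3
        exact S.y_facts.2 h3
    have h := ((centralizer ({S.y} : Set G)).subgroupOf N).card_mul_index
    rw [hidx, Nat.card_congr (subgroupOfEquivOfLe hCN).toEquiv, hC] at h
    omega
  have hi := N.card_mul_index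
  rw [hNcard, card_eq' S] at hi
  replace hmod : Nat.card (Sylow 3 G) ≡ 1 [MOD 3] := hmod
  rw [hP] at hmod
  change N.index ≡ 1 [MOD 3] at hmod
  rw [show N.index = 14630 by omega] at hmod
  exact absurd hmod (by decide)

theorem conj_smul_mem {N : Subgroup G} {s a : G} (h : ∀ x ∈ N, s * x * s⁻¹ ∈ N) (ha : a ∈ N) (k : ℕ) :
    s ^ k * a * (s ^ k)⁻¹ ∈ N := by
  induction k with
  | zero => simpa using ha
  | succ k ih =>
    rw [pow_succ', show s * s ^ k * a * (s * s ^ k)⁻¹ = s * (s ^ k * a * (s ^ k)⁻¹) * s⁻¹ by group]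
    exact h _ ih

theorem normalizes_inv {N : Subgroup G} [Finite N] {s : G} (h : ∀ x ∈ N, s * x * s⁻¹ ∈ N) :
    s ∈ normalizer (N : Set G) := by
  rw [mem_normalizer_iff]
  exact fun x => ⟨h x, fun hx => by
    have h1 : ∀ k : ℕ, s ^ k * (s * x * s⁻¹) * (s ^ k)⁻¹ ∈ N := conj_smul_mem h hx
    have h2 := h1 (orderOf s - 1)
    have e : s ^ (orderOf s - 1) = s⁻¹ := by
      apply eq_inv_of_mul_eq_one_left
      rw [← pow_succ, Nat.sub_add_cancel (orderOf_pos s), pow_orderOf_eq_one]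
    rw [e] at h2
    simpa [mul_assoc] using h2⟩

/-- An element of order seven with the standard action on the Sylow two-subgroup. -/
theorem exists_seven : ∃ S' : Setup G, ∃ s : G, S'.t = S.t ∧ s ^ 7 = 1 ∧
    (∀ x ∈ S'.syl, s * x * s⁻¹ ∈ S'.syl) ∧
    S'.emb mT * s * (S'.emb mT)⁻¹ = s * s ∧ s * S'.t * s⁻¹ = S'.emb mw1 := by
  classical
  haveI : Fact (Nat.Prime 2) := ⟨Nat.prime_two⟩
  haveI : Fact (Nat.Prime 3) := ⟨by norm_num⟩
  haveI : Fact (Nat.Prime 7) := ⟨by norm_num⟩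
  let P : Sylow 2 G := Sylow.ofCard S.syl (by rw [S.card_syl, S.factorization_two]; norm_num)
  haveI : IsMulCommutative (P : Subgroup G) :=
    ⟨⟨fun a b => Subtype.ext (syl_comm S a.2 b.2)⟩⟩
  set N := normalizer (S.syl : Set G) with hN
  have fuse : ∀ u ∈ S.syl, u ≠ 1 → ∃ n ∈ N, n * S.t * n⁻¹ = u := by
    intro u hu hu1
    obtain ⟨g, hg⟩ := isConj_iff.1 (S.syl_conj hu hu1)
    obtain ⟨n, hn, hne⟩ := P.conj_eq_normalizer_conj_of_mem S.t g⁻¹ (t_mem_syl S)
      (by rw [inv_inv, hg]; exact hu)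
    refine ⟨n⁻¹, inv_mem hn, ?_⟩
    rw [inv_inv] at hne ⊢
    rw [← hne, hg]
  let O := {x : G // x ∈ S.syl ∧ x ≠ 1}
  let act : MulAction N O :=
    { smul := fun n x => ⟨(n : G) * x.1 * (n : G)⁻¹, (mem_normalizer_iff.1 n.2 x.1).1 x.2.1,
        fun h => x.2.2 (by simpa using h)⟩
      one_smul := fun x => Subtype.ext (by show (1 : G) * x.1 * (1 : G)⁻¹ = x.1; group)
      mul_smul := fun a b x => Subtype.ext (by
        show ((a : G) * b) * x.1 * ((a : G) * b)⁻¹ = a * ((b : G) * x.1 * (b : G)⁻¹) * (a : G)⁻¹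
        group) }
  letI := act
  let x0 : O := ⟨S.t, t_mem_syl S, S.t_ne⟩
  haveI : MulAction.IsPretransitive N O := ⟨fun a b => by
    obtain ⟨n, hn, hn'⟩ := fuse a.1 a.2.1 a.2.2
    obtain ⟨m, hm, hm'⟩ := fuse b.1 b.2.1 b.2.2
    refine ⟨⟨m, hm⟩ * (⟨n, hn⟩ : N)⁻¹, Subtype.ext ?_⟩
    show m * n⁻¹ * a.1 * (m * n⁻¹)⁻¹ = b.1
    rw [← hn', ← hm']; group⟩
  have hO : Nat.card O = 7 := by
    have e : Nat.card O + 1 = Nat.card S.syl := by
      rw [← Finite.card_option]
      refine Nat.card_congr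
        { toFun := fun o => o.elim 1 fun x => ⟨x.1, x.2.1⟩
          invFun := fun y => if h : (y : G) = 1 then none else some ⟨y.1, y.2, h⟩
          left_inv := fun o => by
            cases o with
            | none => simp
            | some x => simp [x.2.2]
          right_inv := fun y => by
            by_cases h : (y : G) = 1
            · simp only [h, dif_pos, Option.elim_none]; exact Subtype.ext h.symm
            · simp [h] }
    rw [S.card_syl] at e; omega
  have hstab : Nat.card (MulAction.stabilizer N x0) = 24 := by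
    have e : {m : M // (∀ c : A5, c ^ 2 = 1 → (c : Equiv.Perm (Fin 5)) 4 = 4 →
        (m.2 * c * m.2⁻¹) ^ 2 = 1 ∧ ((m.2 * c * m.2⁻¹ : A5) : Equiv.Perm (Fin 5)) 4 = 4)} ≃
        C2 × {b : A5 // ((b * pX * b⁻¹) ^ 2 = 1 ∧ ((b * pX * b⁻¹ : A5) : Equiv.Perm (Fin 5)) 4 = 4) ∧
          ((b * pW * b⁻¹) ^ 2 = 1 ∧ ((b * pW * b⁻¹ : A5) : Equiv.Perm (Fin 5)) 4 = 4)} :=
      { toFun := fun m => (m.1.1, ⟨m.1.2, m.2 pX four_mem.1.1 four_mem.1.2, m.2 pW four_mem.2.1 four_mem.2.2⟩)
        invFun := fun q => ⟨(q.1, q.2.1), norm_four q.2.1 q.2.2⟩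
        left_inv := fun m => rfl
        right_inv := fun q => rfl }
    have e24 := Nat.card_congr e
    have hC2 : Nat.card C2 = 2 := by rw [Nat.card_eq_fintype_card]; rfl
    rw [Nat.card_prod, hC2, Nat.card_eq_fintype_card (α := {b : A5 // _}), Fintype.card_subtype,
      norm_card, show 2 * 12 = 24 from rfl] at e24
    refine Eq.trans ?_ e24
    symm
    have memN : ∀ m : M, (∀ c : A5, c ^ 2 = 1 → (c : Equiv.Perm (Fin 5)) 4 = 4 →
        (m.2 * c * m.2⁻¹) ^ 2 = 1 ∧ ((m.2 * c * m.2⁻¹ : A5) : Equiv.Perm (Fin 5)) 4 = 4) →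
        S.emb m ∈ N := by
      intro m hm
      refine normalizes_inv ?_
      rintro _ ⟨c, hc, rfl⟩
      rw [← map_inv, ← map_mul, ← map_mul]
      exact (Setup.mem_syl S).2 (hm c.2 hc.1 hc.2)
    refine Nat.card_eq_of_bijective (fun m => ⟨⟨S.emb m.1, memN m.1 m.2⟩, ?_⟩) ⟨?_, ?_⟩
    · refine Subtype.ext ?_
      show S.emb m.1 * S.t * (S.emb m.1)⁻¹ = S.t
      rw [Setup.t, ← map_inv, ← map_mul, ← map_mul]
      congr 1
      obtain ⟨⟨i, b⟩, -⟩ := m
      simp [tau, Prod.ext_iff, mul_comm]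
    · intro a b h
      exact Subtype.ext (S.inj (congrArg (fun q => ((q.1 : N) : G)) h))
    · rintro ⟨⟨g, hg⟩, hgs⟩
      have hgt : g * S.t * g⁻¹ = S.t := congrArg Subtype.val hgs
      obtain ⟨m, rfl⟩ := S.mem g (mul_inv_eq_iff_eq_mul.1 hgt)
      refine ⟨⟨m, fun c hc1 hc2 => ?_⟩, rfl⟩
      have h := (mem_normalizer_iff.1 hg (S.emb (1, c))).1 ((Setup.mem_syl S).2 ⟨hc1, hc2⟩)
      rw [← map_inv, ← map_mul, ← map_mul] at h
      exact (Setup.mem_syl S).1 h
  have hNcard : Nat.card N = 168 := by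
    have h := MulAction.index_stabilizer_of_transitive N x0
    have h2 := (MulAction.stabilizer N x0).index_mul_card
    rw [h, hO, hstab] at h2
    omega
  have hyN : S.emb mT ∈ N := by
    refine normalizes_inv ?_
    rintro _ ⟨c, hc, rfl⟩
    rw [← map_inv, ← map_mul, ← map_mul]
    exact (Setup.mem_syl S).2 (norm_four_mT c.2 hc.1 hc.2)
  let yN : N := ⟨S.emb mT, hyN⟩
  have hy3 : yN ^ 3 = 1 := Subtype.ext (by
    show (S.emb mT) ^ 3 = 1
    rw [← map_pow, mT_facts.2.2, map_one])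
  have hY : IsPGroup 3 (zpowers yN) := by
    have hd : Nat.card (zpowers yN) ∣ 3 ^ 1 := by
      rw [Nat.card_zpowers, pow_one]; exact orderOf_dvd_of_pow_eq_one hy3
    obtain ⟨k, -, hk⟩ := (Nat.dvd_prime_pow (by norm_num : Nat.Prime 3)).1 hd
    exact IsPGroup.of_card hk
  have hn7 : ¬ 3 ∣ Nat.card (Sylow 7 N) := by
    have h1 := card_sylow_modEq_one 7 N
    obtain ⟨Q⟩ : Nonempty (Sylow 7 N) := Sylow.nonempty
    have h2 := Q.card_dvd_index
    have h3 := (Q : Subgroup N).card_mul_index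
    have hQ : Nat.card (Q : Subgroup N) = 7 := by
      rw [Q.card_eq_multiplicity, hNcard, fac168, pow_one]
    rw [hQ, hNcard] at h3
    rw [show (Q : Subgroup N).index = 24 by omega] at h2
    have hle := Nat.le_of_dvd (by norm_num) h2
    intro h3'
    unfold Nat.ModEq at h1
    have : Nat.card (Sylow 7 N) = 15 ∨ Nat.card (Sylow 7 N) = 22 ∨ Nat.card (Sylow 7 N) = 8 ∨
        Nat.card (Sylow 7 N) = 1 := by omega
    rcases this with h | h | h | h <;> rw [h] at h2 h3' <;> revert h2 h3' <;> decide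
  obtain ⟨Q, hQ⟩ := hY.nonempty_fixed_point_of_prime_not_dvd_card (Sylow 7 N) hn7
  have hQcard : Nat.card (Q : Subgroup N) = 7 := by
    rw [Q.card_eq_multiplicity, hNcard, fac168, pow_one]
  obtain ⟨sq, hsq⟩ := exists_prime_orderOf_dvd_card' 7 (G := (Q : Subgroup N)) (by rw [hQcard])
  have hfix := hQ ⟨yN, mem_zpowers yN⟩
  have hconj : yN * (sq : N) * yN⁻¹ ∈ (Q : Subgroup N) := by
    have h1 : (yN * (sq : N) * yN⁻¹) ∈ MulAut.conj yN • (Q : Subgroup N) :=
      ⟨sq, sq.2, rfl⟩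
    rw [show MulAut.conj yN • (Q : Subgroup N) = (((⟨yN, mem_zpowers yN⟩ : zpowers yN) • Q : Sylow 7 N) : Subgroup N)
      from rfl, hfix] at h1
    exact h1
  obtain ⟨j, hj⟩ : ∃ j : ℕ, (sq : N) ^ j = yN * (sq : N) * yN⁻¹ := by
    have htop : zpowers sq = ⊤ :=
      Subgroup.eq_top_of_card_eq _ (by rw [Nat.card_zpowers, hsq, hQcard])
    have : (⟨_, hconj⟩ : (Q : Subgroup N)) ∈ zpowers sq := htop ▸ mem_top _
    rw [← mem_powers_iff_mem_zpowers] at this
    obtain ⟨j, hj⟩ := this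
    exact ⟨j, congrArg Subtype.val hj⟩
  set s : G := ((sq : N) : G) with hsdef
  have hs7 : s ^ 7 = 1 := by
    have : sq ^ 7 = 1 := by
      have := pow_orderOf_eq_one sq
      rwa [hsq] at this
    exact congrArg (fun q : (Q : Subgroup N) => ((q : N) : G)) this
  have hsord : orderOf s = 7 := by
    rw [hsdef, Subgroup.orderOf_coe, Subgroup.orderOf_coe, hsq]
  have hjs : S.emb mT * s * (S.emb mT)⁻¹ = s ^ j := (congrArg Subtype.val hj).symm
  have hsnorm : ∀ x ∈ S.syl, s * x * s⁻¹ ∈ S.syl := fun x hx =>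
    (mem_normalizer_iff.1 (sq : N).2 x).1 hx
  have hsC : ∀ k : ℕ, s ^ k * S.t = S.t * s ^ k → 7 ∣ k := by
    intro k hk
    obtain ⟨m, hm⟩ := S.mem _ hk
    have hm7 : m ^ 7 = 1 := S.inj (by rw [map_pow, hm, ← pow_mul, mul_comm k 7, pow_mul, hs7, one_pow, map_one])
    rw [no_seven m hm7, map_one] at hm
    rw [← hsord]; exact orderOf_dvd_of_pow_eq_one hm.symm
  have hiter : ∀ i : ℕ, S.emb mT * s ^ i * (S.emb mT)⁻¹ = s ^ (j * i) := fun i => by
    rw [← conj_pow, hjs, ← pow_mul]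
  have hcases : j % 7 = 2 ∨ j % 7 = 4 := by
    have h3 : s ^ (j * (j * j)) = s := by
      have e : ∀ z : G, S.emb mT * (S.emb mT * (S.emb mT * z * (S.emb mT)⁻¹) * (S.emb mT)⁻¹) * (S.emb mT)⁻¹ =
          (S.emb mT) ^ 3 * z * ((S.emb mT) ^ 3)⁻¹ := fun z => by rw [pow_succ, pow_two]; group
      have h := e s
      rw [hjs, hiter j, hiter (j * j), ← map_pow, mT_facts.2.2, map_one] at h
      simpa using h
    have hm3 : j * (j * j) % 7 = 1 := by
      have := pow_eq_pow_iff_modEq.1 (h3.trans (pow_one s).symm)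
      rw [hsord] at this
      exact this
    have hj1 : j % 7 ≠ 1 := by
      intro h1
      have hc : S.emb mT * s = s * S.emb mT := by
        have : s ^ j = s := by
          rw [← pow_mod_orderOf, hsord, h1, pow_one]
        rw [this] at hjs
        exact mul_inv_eq_iff_eq_mul.1 hjs
      have hmem : s ∈ centralizer ({S.y} : Set G) := mem_centralizer_singleton_iff.2 hc.symm
      have := orderOf_dvd_natCard (⟨s, hmem⟩ : centralizer ({S.y} : Set G))
      rw [Subgroup.orderOf_mk, hsord, card_cent_y S] at this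
      norm_num at this
    rw [Nat.mul_mod, Nat.mul_mod j j] at hm3
    have hlt := Nat.mod_lt j (show 7 > 0 by norm_num)
    interval_cases h : j % 7 <;> simp_all
  -- choose the setup with exponent two
  obtain ⟨S', ht, hT, hy2⟩ : ∃ S' : Setup G, S'.t = S.t ∧ S'.syl = S.syl ∧
      S'.emb mT * s * (S'.emb mT)⁻¹ = s * s := by
    rcases hcases with h | h
    · refine ⟨S, rfl, rfl, ?_⟩
      rw [hjs, ← pow_mod_orderOf, hsord, h, pow_two]
    · have e1 : outM tau = tau := Prod.ext rfl (map_one outA5)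
      refine ⟨Setup.twist S, ?_, ?_, ?_⟩
      · show S.emb (outM tau) = S.emb tau
        rw [e1]
      · have hmap : sylM.map outM.toMonoidHom = sylM := by
          refine Subgroup.eq_of_le_of_card_ge ?_ ?_
          · rintro _ ⟨m, hm, rfl⟩
            refine ⟨?_, outA5_facts.1 m.2 hm.1 hm.2⟩
            show (outA5 m.2) ^ 2 = 1
            rw [← map_pow, hm.1, map_one]
          · rw [← Nat.card_congr (sylM.equivMapOfInjective outM.toMonoidHom outM.injective).toEquiv]
        show sylM.map (S.emb.comp outM.toMonoidHom) = sylM.map S.emb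
        rw [← Subgroup.map_map, hmap]
      · have e2 : outM mT = mT⁻¹ := Prod.ext (inv_one (G := C2)).symm outA5_facts.2
        show S.emb (outM mT) * s * (S.emb (outM mT))⁻¹ = s * s
        rw [e2, map_inv, inv_inv]
        have h2 := hiter 2
        rw [← pow_mod_orderOf (n := j * 2), hsord, Nat.mul_mod, h, show 4 * (2 % 7) % 7 = 1 from rfl,
          pow_one] at h2
        conv_lhs => rw [← h2]
        rw [pow_two]; group
  -- choose the power sending `t` to the prescribed element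
  have horbit : ∀ u ∈ S'.syl, u ≠ 1 → ∃ k : ℕ, s ^ k * S'.t * (s ^ k)⁻¹ = u := by
    rw [hT, ht]
    intro u hu hu1
    let f : Fin 7 → O := fun k => ⟨s ^ k.val * S.t * (s ^ k.val)⁻¹,
      conj_smul_mem hsnorm (t_mem_syl S) _, fun h => S.t_ne (by simpa using h)⟩
    have hf : Function.Injective f := by
      intro a b hab
      have h := congrArg Subtype.val hab
      simp only [f] at h
      wlog hle : a ≤ b generalizing a b with H
      · exact (H hab.symm h.symm (le_of_not_ge hle)).symm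
      obtain ⟨d, hd⟩ := Nat.exists_eq_add_of_le (show a.val ≤ b.val from hle)
      rw [hd, pow_add] at h
      have hc : s ^ d * S.t = S.t * s ^ d := by
        have h' : S.t = s ^ d * S.t * (s ^ d)⁻¹ := by
          calc S.t = (s ^ a.val)⁻¹ * (s ^ a.val * S.t * (s ^ a.val)⁻¹) * s ^ a.val := by group
            _ = s ^ d * S.t * (s ^ d)⁻¹ := by rw [h]; group
        exact (mul_inv_eq_iff_eq_mul.1 h'.symm)
      have := hsC d hc
      exact Fin.ext (by omega)
    obtain ⟨k, hk⟩ := ((Nat.bijective_iff_injective_and_card f).2 ⟨hf, by rw [hO, Nat.card_fin]⟩).2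
      ⟨u, hu, hu1⟩
    exact ⟨k.val, congrArg Subtype.val hk⟩
  obtain ⟨k, hk⟩ := horbit _ ((Setup.mem_syl S').2 basis_mem.1) (fun h =>
    mT_facts.2.1 (S'.inj (h.trans (map_one _).symm)))
  refine ⟨S', s ^ k, ht, ?_, ?_, ?_, hk⟩
  · rw [← pow_mul, mul_comm k 7, pow_mul, hs7, one_pow]
  · rw [hT]; exact fun x hx => conj_smul_mem hsnorm hx k
  · rw [← conj_pow, hy2, ← pow_add, ← pow_two, ← pow_mul, two_mul]

/-- The four generators. -/
def genG (s : G) : ℕ → G := fun n => if n < 3 then S.emb (genM n) else if n = 3 then s else 1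

omit [Finite G] [IsSimpleGroup G] in
theorem evalW_low (s : G) : ∀ w : List ℕ, (∀ g ∈ w, g < 6) → evalW (genG S s) w = S.emb (evM w) := by
  intro w
  induction w with
  | nil => intro _; simp [evM]
  | cons g w ih =>
    intro h
    rw [evalW_cons, ih fun a ha => h a (List.mem_cons_of_mem _ ha)]
    have hg := h g List.mem_cons_self
    show val (genG S s) g * _ = S.emb (valM g * evM w)
    rw [map_mul]
    congr 1
    unfold val valM
    have h3 : g / 2 < 3 := by omega
    simp only [show g < 8 by omega, if_true]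
    split_ifs <;> simp [genG, h3]

/-- The conjugation relator `s a s⁻¹ b⁻¹`. -/
def relS (a b : List ℕ) : List ℕ := [6] ++ a ++ [7] ++ winv b

/-- The word `r` of the last relator. -/
def rWord : Fin 4 → List ℕ :=
  ![[7, 7, 2, 4, 6, 6], [7, 7, 4, 2, 6, 6], [6, 4, 2, 4, 7], [6, 2, 4, 2, 4, 2, 7]]

/-- All the relators of one case. -/
def relList (c : Fin 4) : List (List ℕ) :=
  [[0, 0], [2, 2], [4, 4, 4], [2, 4, 2, 4, 2, 4, 2, 4, 2, 4], [0, 2, 0, 2], [0, 4, 0, 5],
    [6, 6, 6, 6, 6, 6, 6], wT ++ [6] ++ winv wT ++ [7, 7], relS [0] wW1, relS wW1 wW2,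
    relS wW2 wX0, rWord c ++ wY ++ winv (rWord c) ++ winv wY,
    relS [2] ([2] ++ wX0), relS wX0 ([0, 2] ++ wX0), relS ([2] ++ wX0) [0],
    relS ([0, 2] ++ wX0) [2]]

theorem relList_eq : relList 0 = Main.log.rels ∧ relList 1 = BadA.log.rels ∧
    relList 2 = BadB.log.rels ∧ relList 3 = BadC.log.rels := by
  refine ⟨?_, ?_, ?_, ?_⟩ <;> decide +kernel

theorem seven_facts : comb 0 0 0 = 1 ∧ mw1 * mw2 = evM ([2] ++ wX0) ∧
    mw1 * mx0 = evM ([0, 2] ++ wX0) ∧ evM [2] = tau * mw1 ∧ evM [0] = tau ∧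
    evM wX0 = tau * mw2 ∧ evM ([0, 2] ++ wX0) = tau * (tau * mw1 * (tau * mw2)) ∧
    evM ([2] ++ wX0) = tau * mw1 * (tau * mw2) ∧ mw1 * mw2 * (mw1 * mx0) = tau ∧
    mw1 * (mw1 * mw2 * (mw1 * mx0)) = (1, pX) := by
  refine ⟨?_, ?_, ?_, ?_, ?_, ?_, ?_, ?_, ?_, ?_⟩ <;> decide +kernel

theorem pre_facts : preT 0 = mw2 ∧ preT 1 = mw2 * mw1 ∧ (1, pX) = mw2 * (mw1 * mx0) ∧
    tau * mw1 = (1, pX) ∧ mw1 ≠ tau ∧ mx0 = tau * mw2 := by
  refine ⟨?_, ?_, ?_, ?_, ?_, ?_⟩ <;> decide +kernel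

theorem mc_facts : evM [2, 4] = mc 0 ∧ evM [4, 2] = mc 1 ∧ evM [4, 2, 4] = mc 2 ∧
    evM [2, 4, 2, 4, 2] = mc 3 := ⟨rfl, rfl, rfl, rfl⟩

omit [Finite G] [IsSimpleGroup G] in
theorem evalW_six (s : G) : evalW (genG S s) [6] = s ∧ evalW (genG S s) [7] = s⁻¹ := by
  constructor <;> simp [evalW, val, genG]

omit [Finite G] [IsSimpleGroup G] in
theorem evalW_low_inv (s : G) (w : List ℕ) (hw : ∀ g ∈ w, g < 6) :
    evalW (genG S s) (winv w) = (S.emb (evM w))⁻¹ := by
  rw [evalW_winv, evalW_low S s w hw]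

omit [Finite G] [IsSimpleGroup G] in
theorem evalW_relS (s : G) (a b : List ℕ) (ha : ∀ g ∈ a, g < 6) (hb : ∀ g ∈ b, g < 6)
    (h : s * S.emb (evM a) * s⁻¹ = S.emb (evM b)) : evalW (genG S s) (relS a b) = 1 := by
  rw [relS, evalW_append, evalW_append, evalW_append, (evalW_six S s).1, (evalW_six S s).2,
    evalW_low S s a ha, evalW_low_inv S s b hb, h, mul_inv_cancel]

omit [IsSimpleGroup G] in
/-- The conjugation action of the element of order seven on the four generating involutions. -/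
theorem seven_images (s : G) (hn : ∀ x ∈ S.syl, s * x * s⁻¹ ∈ S.syl)
    (hy : S.emb mT * s * (S.emb mT)⁻¹ = s * s) (h1 : s * S.t * s⁻¹ = S.emb mw1) :
    s * S.emb mw1 * s⁻¹ = S.emb mw2 ∧ s * S.emb mw2 * s⁻¹ = S.emb mx0 := by
  have hyt : S.emb mT * S.t * (S.emb mT)⁻¹ = S.t := by
    rw [Setup.t, ← map_mul, mT_facts.1, map_mul, mul_inv_cancel_right]
  have e2 : s * S.emb mw1 * s⁻¹ = S.emb mw2 := by
    calc s * S.emb mw1 * s⁻¹ = (s * s) * S.t * (s * s)⁻¹ := by rw [← h1]; group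
      _ = (S.emb mT * s * (S.emb mT)⁻¹) * (S.emb mT * S.t * (S.emb mT)⁻¹) *
          (S.emb mT * s * (S.emb mT)⁻¹)⁻¹ := by rw [hy, hyt]
      _ = S.emb mT * (s * S.t * s⁻¹) * (S.emb mT)⁻¹ := by group
      _ = S.emb mw2 := by rw [h1, mw2, map_mul, map_mul, map_inv]
  refine ⟨e2, ?_⟩
  have e4 : (s * s) * S.emb mw2 * (s * s)⁻¹ = S.emb mw4 := by
    have hw : S.emb mw2 = (s * s) * S.t * (s * s)⁻¹ := by rw [← e2, ← h1]; group
    calc (s * s) * S.emb mw2 * (s * s)⁻¹
        = (S.emb mT * s * (S.emb mT)⁻¹) * ((S.emb mT * s * (S.emb mT)⁻¹) *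
            (S.emb mT * S.t * (S.emb mT)⁻¹) * (S.emb mT * s * (S.emb mT)⁻¹)⁻¹) *
          (S.emb mT * s * (S.emb mT)⁻¹)⁻¹ := by rw [hy, hyt, hw]
      _ = S.emb mT * ((s * s) * S.t * (s * s)⁻¹) * (S.emb mT)⁻¹ := by group
      _ = S.emb mw4 := by rw [← hw, mw4, map_mul, map_mul, map_inv]
  obtain ⟨⟨i, b⟩, hb, hm⟩ := hn _ ((Setup.mem_syl S).2 basis_mem.2)
  obtain ⟨a, j, l, habc⟩ := comb_surj b hb.1 hb.2 i
  rw [← habc] at hm
  rw [← hm]
  congr 1
  refine x0_unique a j l a j l rfl (S.inj ?_)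
  have key : S.emb (mw1 ^ a.val * mw2 ^ j.val * (comb a j l) ^ l.val) =
      s * S.emb (comb a j l) * s⁻¹ := by
    calc _ = (s * S.t * s⁻¹) ^ a.val * (s * S.emb mw1 * s⁻¹) ^ j.val *
          (s * S.emb mw2 * s⁻¹) ^ l.val := by
          rw [map_mul, map_mul, map_pow, map_pow, map_pow, h1, e2, hm]
      _ = s * (S.t ^ a.val * S.emb mw1 ^ j.val * S.emb mw2 ^ l.val) * s⁻¹ := by
          rw [conj_pow, conj_pow, conj_pow]; group
      _ = _ := by rw [comb, map_mul, map_mul, map_pow, map_pow, map_pow, Setup.t]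
  rw [key, hm, ← e4]
  group

/-- An element of order five in the centraliser of an element of order three. -/
theorem exists_five : ∃ r : G, r ^ 5 = 1 ∧ r ≠ 1 ∧ r * S.y = S.y * r ∧
    S.t * r * S.t⁻¹ = r⁻¹ ∧ (S.v * r = r * S.v ∨ (S.t * S.v) * r = r * (S.t * S.v)) := by
  classical
  haveI : Fact (Nat.Prime 5) := ⟨by norm_num⟩
  obtain ⟨O, -, hOy, hCcard, -, hodd⟩ := S.exists_core
  rw [card_cent_y S] at hCcard
  have hO : Nat.card O = 15 := by omega
  obtain ⟨r, hr⟩ := exists_prime_orderOf_dvd_card' 5 (G := O) (by rw [hO]; norm_num)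
  have hro : orderOf (r : G) = 5 := by rw [Subgroup.orderOf_coe, hr]
  let P : Sylow 5 O := Sylow.ofCard (zpowers r) (by
    rw [Nat.card_zpowers, hr, hO, show (15 : ℕ) = 5 ^ 1 * 3 by norm_num,
      Nat.factorization_mul (by norm_num) (by norm_num), Finsupp.add_apply, Nat.factorization_pow,
      Finsupp.smul_apply, Nat.Prime.factorization_self (by norm_num),
      Nat.factorization_eq_zero_of_not_dvd (by norm_num)]
    rfl)
  have hone : Nat.card (Sylow 5 O) = 1 := by
    have h1 := card_sylow_modEq_one 5 O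
    have h2 := P.card_dvd_index
    have h3 := (P : Subgroup O).card_mul_index
    rw [hO, show Nat.card (P : Subgroup O) = 5 from (Nat.card_zpowers r).trans hr] at h3
    rw [show (P : Subgroup O).index = 3 by omega] at h2
    unfold Nat.ModEq at h1
    have := Nat.le_of_dvd (by norm_num) h2
    omega
  haveI := (Nat.card_eq_one_iff_unique.1 hone).1
  have hpow : ∀ g ∈ O, orderOf g = 5 → g ∈ zpowers (r : G) := by
    intro g hg hgo
    have hgo' : orderOf (⟨g, hg⟩ : O) = 5 := by rw [Subgroup.orderOf_mk, hgo]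
    obtain ⟨Q, hQ⟩ := (IsPGroup.of_card (G := zpowers (⟨g, hg⟩ : O)) (p := 5) (n := 1)
      (by rw [Nat.card_zpowers, hgo']; rfl)).exists_le_sylow
    rw [Subsingleton.elim Q P] at hQ
    obtain ⟨k, hk⟩ := hQ (mem_zpowers _)
    exact ⟨k, congrArg Subtype.val hk⟩
  have hr45 : (r : G) ^ 4 * r = 1 := by rw [← pow_succ, show 4 + 1 = orderOf (r : G) from hro.symm, pow_orderOf_eq_one]
  have invol : ∀ u : G, u ^ 2 = 1 → (u * S.y * u⁻¹ = S.y ∨ u * S.y * u⁻¹ = S.y⁻¹) →
      u * r * u⁻¹ = (r : G) ∨ u * r * u⁻¹ = (r : G)⁻¹ := by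
    intro u hu huy
    have hord : orderOf (u * r * u⁻¹) = 5 := by
      rw [show u * (r : G) * u⁻¹ = MulAut.conj u (r : G) from rfl, MulEquiv.orderOf_eq, hro]
    have hcomm : Commute (u * r * u⁻¹) S.y := by
      have h : Commute (r : G) S.y := hOy _ r.2
      rcases huy with e | e
      · have := h.map (MulAut.conj u).toMonoidHom
        simp only [MulEquiv.coe_toMonoidHom, MulAut.conj_apply, e] at this
        exact this
      · have := h.map (MulAut.conj u).toMonoidHom
        simp only [MulEquiv.coe_toMonoidHom, MulAut.conj_apply, e] at this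
        simpa using this.inv_right
    obtain ⟨k, hk⟩ := mem_powers_iff_mem_zpowers.2 (hpow _ (hodd _ hcomm (by rw [hord]; decide)) hord)
    simp only [] at hk
    have h2 : (r : G) ^ (k * k) = (r : G) := by
      rw [pow_mul, hk, conj_pow, hk]
      calc u * (u * r * u⁻¹) * u⁻¹ = (u * u) * r * (u * u)⁻¹ := by group
        _ = r := by rw [mul_self_of_sq hu]; group
    have h3 : k * k % 5 = 1 := by
      have := pow_eq_pow_iff_modEq.1 (h2.trans (pow_one (r : G)).symm)
      rw [hro] at this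
      exact this
    rw [← hk, ← pow_mod_orderOf, hro]
    rw [Nat.mul_mod] at h3
    have hlt := Nat.mod_lt k (show 5 > 0 by norm_num)
    interval_cases h : k % 5 <;> simp_all
    exact Or.inr (eq_inv_of_mul_eq_one_left hr45)
  have htr : S.t * r * S.t⁻¹ = (r : G)⁻¹ := by
    refine (invol S.t S.t_sq (Or.inl (by rw [S.t_comm_y, mul_inv_cancel_right]))).resolve_left fun h => ?_
    have h' : S.t * (r : G) = r * S.t := mul_inv_eq_iff_eq_mul.1 h
    have hd : orderOf (r : G) ∣ 6 := by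
      rw [← S.card_cent_y_t]
      let H : Subgroup G := centralizer ({S.y} : Set G) ⊓ centralizer ({S.t} : Set G)
      have hr' : (r : G) ∈ H := mem_inf.2 ⟨mem_centralizer_singleton_iff.2 (hOy _ r.2),
        mem_centralizer_singleton_iff.2 h'.symm⟩
      rw [show Nat.card {g : G // g * S.y = S.y * g ∧ g * S.t = S.t * g} = Nat.card H from
        Nat.card_congr (Equiv.subtypeEquivRight fun g => by
          simp only [H, mem_inf, mem_centralizer_singleton_iff])]
      exact Subgroup.orderOf_dvd_natCard H hr'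
    rw [hro] at hd
    norm_num at hd
  refine ⟨r, by rw [← hro]; exact pow_orderOf_eq_one _, fun h => ?_, hOy _ r.2, htr, ?_⟩
  · rw [h, orderOf_one] at hro
    norm_num at hro
  · rcases invol S.v S.v_sq.1 (Or.inr S.v_inv) with h | h
    · exact Or.inl (mul_inv_eq_iff_eq_mul.1 h)
    · refine Or.inr (mul_inv_eq_iff_eq_mul.1 ?_)
      calc S.t * S.v * r * (S.t * S.v)⁻¹ = S.t * (S.v * r * S.v⁻¹) * S.t⁻¹ := by group
        _ = (S.t * r * S.t⁻¹)⁻¹ := by rw [h]; group
        _ = r := by rw [htr, inv_inv]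

/-- The relators of one of the four cases hold in the group. -/
theorem exists_amalgam : ∃ S' : Setup G, ∃ s : G, ∃ c : Fin 4, S'.t = S.t ∧
    s * S'.t * s⁻¹ = S'.emb mw1 ∧ ∀ w ∈ relList c, evalW (genG S' s) w = 1 := by
  obtain ⟨S', s, ht, hs7, hn, hy, h1⟩ := exists_seven S
  obtain ⟨h2, h3⟩ := seven_images S' s hn hy h1
  -- images of the other elements
  have hT : S'.emb tau = S'.t := rfl
  have hx : s * S'.emb mx0 * s⁻¹ = S'.emb (mw1 * mx0) := by
    conv_lhs => rw [pre_facts.2.2.2.2.2, map_mul]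
    rw [map_mul, ← h1, ← h3, hT]; group
  have hX : s * S'.emb (tau * mw1) * s⁻¹ = S'.emb (mw1 * mw2) := by
    rw [map_mul, map_mul, ← h2, hT, ← h1]; group
  have back : ∀ a b : M, s * S'.emb a * s⁻¹ = S'.emb b → s⁻¹ * S'.emb b * s = S'.emb a :=
    fun a b h => by rw [← h]; group
  -- the element of order five
  let S2 : Setup G := S'.conj (S'.emb (1, pShift))
  have eY : S2.y = S'.emb mY := by
    show S'.emb (1, pShift) * S'.emb m3 * (S'.emb (1, pShift))⁻¹ = _
    rw [mY, map_mul, map_mul, map_inv]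
  have eV : S2.v = S'.emb mV := by
    show S'.emb (1, pShift) * S'.emb mv * (S'.emb (1, pShift))⁻¹ = _
    rw [mV, map_mul, map_mul, map_inv]
  have eT : S2.t = S'.t := by
    show S'.emb (1, pShift) * S'.emb tau * (S'.emb (1, pShift))⁻¹ = S'.emb tau
    rw [← map_inv, ← map_mul, ← map_mul, shift_facts.1]
  obtain ⟨r, hr5, hr1, hry, hrt, hru⟩ := exists_five S2
  rw [eY] at hry
  rw [eT] at hrt hru
  rw [eV] at hru
  obtain ⟨ε, k, hu, hpre, hk7⟩ : ∃ ε : Fin 2, ∃ k : ℕ,
      (s ^ k * S'.t * (s ^ k)⁻¹) * r = r * (s ^ k * S'.t * (s ^ k)⁻¹) ∧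
      (s ^ k)⁻¹ * S'.t * s ^ k = S'.emb (preT ε) ∧ k = ![5, 1] ε := by
    rcases hru with h | h
    · refine ⟨0, 5, ?_, ?_, rfl⟩
      · suffices e : s ^ 5 * S'.t * (s ^ 5)⁻¹ = S'.emb mV by rw [e]; exact h
        calc s ^ 5 * S'.t * (s ^ 5)⁻¹ =
            s * (s * (s * (s * (s * S'.t * s⁻¹) * s⁻¹) * s⁻¹) * s⁻¹) * s⁻¹ := by
              simp only [pow_succ, pow_zero, one_mul]; group
          _ = s * (S'.emb (mw1 * mx0)) * s⁻¹ := by rw [h1, h2, h3, hx]
          _ = s * S'.emb mw1 * s⁻¹ * (s * S'.emb mx0 * s⁻¹) := by rw [map_mul]; group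
          _ = _ := by rw [h2, hx, ← map_mul, ← pre_facts.2.2.1, shift_facts.2.1]
      · rw [pre_facts.1, ← h2, ← h1]
        have e : (s ^ 5)⁻¹ = s * s := by
          rw [inv_eq_iff_mul_eq_one, show s ^ 5 * (s * s) = s ^ 7 by group, hs7]
        have e' : s ^ 5 = (s * s)⁻¹ := by rw [← e, inv_inv]
        rw [e, e']
        group
    · refine ⟨1, 1, ?_, ?_, rfl⟩
      · rw [pow_one, h1]
        rw [show S'.emb mw1 = S'.t * S'.emb mV by rw [← shift_facts.2.2, map_mul, hT]]
        exact h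
      · rw [pow_one]
        calc s⁻¹ * S'.t * s = s⁻¹ * S'.emb (mx0 * mw2) * s := by
              rw [show mx0 * mw2 = tau by decide +kernel, hT]
          _ = (s⁻¹ * S'.emb mx0 * s) * (s⁻¹ * S'.emb mw2 * s) := by rw [map_mul]; group
          _ = _ := by rw [back _ _ h2, back _ _ h3, ← map_mul, pre_facts.2.1]
  -- move it into the centraliser of the involution
  set q : G := (s ^ k)⁻¹ * r * s ^ k with hq
  have hqt : q * S'.t = S'.t * q := by
    calc q * S'.t = (s ^ k)⁻¹ * (r * (s ^ k * S'.t * (s ^ k)⁻¹)) * s ^ k := by rw [hq]; group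
      _ = S'.t * q := by rw [← hu, hq]; group
  obtain ⟨⟨i, b⟩, hm⟩ := S'.mem q hqt
  have hq5 : q ^ 5 = 1 := by
    rw [hq, show (s ^ k)⁻¹ * r * s ^ k = (s ^ k)⁻¹ * r * ((s ^ k)⁻¹)⁻¹ by rw [inv_inv], conj_pow,
      hr5]
    group
  have hm5 : ((i, b) : M) ^ 5 = 1 := S'.inj (by rw [map_pow, hm, hq5, map_one])
  have hi : i = 1 := by
    have h : ∀ i : C2, i ^ 5 = 1 → i = 1 := by decide
    exact h i (congrArg Prod.fst hm5)
  subst hi
  have hb1 : b ≠ 1 := by
    intro hb
    rw [hb, show ((1 : C2), (1 : A5)) = (1 : M) from rfl, map_one, hq] at hm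
    apply hr1
    calc r = s ^ k * ((s ^ k)⁻¹ * r * s ^ k) * (s ^ k)⁻¹ := by group
      _ = 1 := by rw [← hm]; group
  have hinv : (preT ε).2 * b * (preT ε).2⁻¹ = b⁻¹ := by
    have e : S'.emb (preT ε * (1, b) * (preT ε)⁻¹) = S'.emb ((1, b) : M)⁻¹ := by
      rw [map_mul, map_mul, map_inv, map_inv, ← hpre, hm, hq]
      calc _ = (s ^ k)⁻¹ * (S'.t * r * S'.t⁻¹) * s ^ k := by group
        _ = _ := by rw [hrt]; group
    exact congrArg Prod.snd (S'.inj e)
  obtain ⟨j, n, hn'⟩ := five_cases ε b (congrArg Prod.snd hm5) hb1 hinv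
  set c : Fin 4 := ⟨2 * ε.val + j.val, by omega⟩ with hc
  have hcq : S'.emb (mc c) = q ^ n.val := by
    rw [show mc c = ((1 : C2), b) ^ n.val from Prod.ext (by rw [mc_fst, Prod.pow_fst, one_pow])
      (by rw [Prod.pow_snd, hn']), map_pow, hm]
  -- the value of the last word
  have hrw : evalW (genG S' s) (rWord c) = r ^ n.val := by
    have e : r ^ n.val = s ^ k * S'.emb (mc c) * (s ^ k)⁻¹ := by
      rw [hcq, ← conj_pow, hq]; congr 1; group
    rw [e]
    have e5 : s ^ 5 = s⁻¹ * s⁻¹ := by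
      rw [show s ^ 5 = s ^ 7 * (s⁻¹ * s⁻¹) by group, hs7, one_mul]
    have six := evalW_six S' s
    have pre : ∀ w : List ℕ, evalW (genG S' s) ([7, 7] ++ w ++ [6, 6]) =
        s⁻¹ * s⁻¹ * evalW (genG S' s) w * (s * s) := fun w => by
      rw [evalW_append, evalW_append, show ([7, 7] : List ℕ) = [7] ++ [7] from rfl,
        show ([6, 6] : List ℕ) = [6] ++ [6] from rfl, evalW_append, evalW_append, six.1, six.2]
    have pre' : ∀ w : List ℕ, evalW (genG S' s) ([6] ++ w ++ [7]) =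
        s * evalW (genG S' s) w * s⁻¹ := fun w => by
      rw [evalW_append, evalW_append, six.1, six.2]
    fin_cases ε <;> fin_cases j <;> simp only [hc] <;> subst hk7
    · show evalW _ ([7, 7] ++ [2, 4] ++ [6, 6]) = s ^ 5 * S'.emb (mc 0) * (s ^ 5)⁻¹
      rw [pre, evalW_low S' s _ (by decide), mc_facts.1, e5, mul_inv_rev, inv_inv]
    · show evalW _ ([7, 7] ++ [4, 2] ++ [6, 6]) = s ^ 5 * S'.emb (mc 1) * (s ^ 5)⁻¹
      rw [pre, evalW_low S' s _ (by decide), mc_facts.2.1, e5, mul_inv_rev, inv_inv]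
    · show evalW _ ([6] ++ [4, 2, 4] ++ [7]) = s ^ 1 * S'.emb (mc 2) * (s ^ 1)⁻¹
      rw [pre', evalW_low S' s _ (by decide), mc_facts.2.2.1, pow_one]
    · show evalW _ ([6] ++ [2, 4, 2, 4, 2] ++ [7]) = s ^ 1 * S'.emb (mc 3) * (s ^ 1)⁻¹
      rw [pre', evalW_low S' s _ (by decide), mc_facts.2.2.2, pow_one]
  refine ⟨S', s, c, ht, h1, ?_⟩
  have six := evalW_six S' s
  have low : ∀ w : List ℕ, (∀ g ∈ w, g < 6) → evM w = 1 → evalW (genG S' s) w = 1 :=
    fun w hw h => by rw [evalW_low S' s w hw, h, map_one]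
  simp only [relList, List.forall_mem_cons]
  refine ⟨low _ (by decide) rel_facts.1, low _ (by decide) rel_facts.2.1,
    low _ (by decide) rel_facts.2.2.1, low _ (by decide) rel_facts.2.2.2.1,
    low _ (by decide) rel_facts.2.2.2.2.1, low _ (by decide) rel_facts.2.2.2.2.2, ?_, ?_,
    ?_, ?_, ?_, ?_, ?_, ?_, ?_, ?_, fun w hw => absurd hw List.not_mem_nil⟩
  · show evalW (genG S' s) ([6] ++ [6] ++ [6] ++ [6] ++ [6] ++ [6] ++ [6]) = 1
    simp only [evalW_append, six.1]
    simpa [pow_succ] using hs7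
  · rw [evalW_append, evalW_append, evalW_append, show ([7, 7] : List ℕ) = [7] ++ [7] from rfl,
      evalW_append, six.1, six.2, evalW_low S' s _ (by decide), evalW_low_inv S' s _ (by decide),
      word_facts.1, hy]
    group
  · refine evalW_relS S' s _ _ (by decide) (by decide) ?_
    rw [seven_facts.2.2.2.2.1, word_facts.2.2.1]; exact h1
  · refine evalW_relS S' s _ _ (by decide) (by decide) ?_
    rw [word_facts.2.2.1, word_facts.2.2.2.1]; exact h2
  · refine evalW_relS S' s _ _ (by decide) (by decide) ?_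
    rw [word_facts.2.2.2.1, word_facts.2.2.2.2]; exact h3
  · rw [evalW_append, evalW_append, evalW_append, evalW_winv, evalW_low S' s wY (by decide),
      evalW_low_inv S' s wY (by decide), word_facts.2.1, hrw]
    rw [((show Commute r (S'.emb mY) from hry).pow_left n.val).eq]
    group
  · refine evalW_relS S' s _ _ (by decide) (by decide) ?_
    rw [seven_facts.2.2.2.1, ← seven_facts.2.1]; exact hX
  · refine evalW_relS S' s _ _ (by decide) (by decide) ?_
    rw [word_facts.2.2.2.2, ← seven_facts.2.2.1]; exact hx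
  · refine evalW_relS S' s _ _ (by decide) (by decide) ?_
    rw [seven_facts.2.2.2.2.1, seven_facts.2.2.2.2.2.2.2.1, ← seven_facts.2.2.2.2.2.1,
      word_facts.2.2.2.2, map_mul]
    calc _ = s * S'.emb (tau * mw1) * s⁻¹ * (s * S'.emb mx0 * s⁻¹) := by group
      _ = _ := by rw [hX, hx, ← map_mul, seven_facts.2.2.2.2.2.2.2.2.1]
  · refine evalW_relS S' s _ _ (by decide) (by decide) ?_
    rw [seven_facts.2.2.2.2.2.2.1, ← seven_facts.2.2.2.2.2.1, word_facts.2.2.2.2, map_mul, map_mul]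
    calc _ = (s * S'.t * s⁻¹) * (s * S'.emb (tau * mw1) * s⁻¹ * (s * S'.emb mx0 * s⁻¹)) := by
          rw [hT]; group
      _ = _ := by
        rw [h1, hX, hx, ← map_mul, ← map_mul, seven_facts.2.2.2.2.2.2.2.2.2,
          seven_facts.2.2.2.1, pre_facts.2.2.2.1]

end H16.J1.Uniq
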